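import Groth.Agent.H4DR.RG.Good
import Groth.Agent.H4DR.RHom.TensFree
import Groth.Prelude.Def_DualLC
import Mathlib.Algebra.Category.ModuleCat.Colimits
import Mathlib.Algebra.Category.Grp.FilteredColimits
import Mathlib.CategoryTheory.Limits.ConcreteCategory.Basic

/-!
# `H^q(RΓ_I K)` as a colimit of morphisms out of `A/I^n`
-/

set_option autoImplicit false
set_option linter.style.haveILetI false
set_option linter.unusedVariables false

universe u

open CategoryTheory CategoryTheory.Limits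
open Groth.Agent.H4DR.RHom (cls cls_eq_zero_iff exists_cls)

attribute [local instance] HasDerivedCategory.standard

namespace Groth.Agent.H4DR.RG

variable {A : Type u} [CommRing A] (I : Ideal A)

lemma cls_add (Z : DRing.Cx A) (i : ℤ) (z z' : Z.X i) (hz : (Z.d i (i + 1)).hom z = 0)
    (hz' : (Z.d i (i + 1)).hom z' = 0) (hzz : (Z.d i (i + 1)).hom (z + z') = 0) :
    cls Z i (z + z') hzz = cls Z i z hz + cls Z i z' hz' := by
  refine (congrArg (Z.homologyπ i).hom ?_).trans (map_add _ _ _)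
  refine (ModuleCat.mono_iff_injective (Z.iCycles i)).1 inferInstance ?_
  refine (RHom.iCycles_cls Z i _ hzz).trans ((map_add _ _ _).trans ?_).symm
  exact congrArg₂ (· + ·) (RHom.iCycles_cls Z i z hz) (RHom.iCycles_cls Z i z' hz')

lemma cls_smul (Z : DRing.Cx A) (i : ℤ) (a : A) (z : Z.X i) (hz : (Z.d i (i + 1)).hom z = 0)
    (haz : (Z.d i (i + 1)).hom (a • z) = 0) : cls Z i (a • z) haz = a • cls Z i z hz := by
  refine (congrArg (Z.homologyπ i).hom ?_).trans (map_smul _ _ _)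
  refine (ModuleCat.mono_iff_injective (Z.iCycles i)).1 inferInstance ?_
  refine (RHom.iCycles_cls Z i _ haz).trans ((map_smul _ _ _).trans ?_).symm
  exact congrArg (fun t => a • t) (RHom.iCycles_cls Z i z hz)

/-- The single complex on `A/I^n`. -/
noncomputable abbrev quotSgl (n : ℕ) : DRing.Cx A := Hom.sgl 0 (ModuleCat.of A (A ⧸ I ^ n))

/-- The class of `1`. -/
noncomputable def u1 (n : ℕ) : (quotSgl I n).X 0 :=
  (HomologicalComplex.singleObjXSelf (ComplexShape.up ℤ) 0 (ModuleCat.of A (A ⧸ I ^ n))).inv.hom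
    (Submodule.Quotient.mk (1 : A))

lemma smul_u1 (n : ℕ) {a : A} (ha : a ∈ I ^ n) : a • u1 I n = 0 := by
  rw [u1, ← map_smul, ← Submodule.Quotient.mk_smul, smul_eq_mul, mul_one,
    (Submodule.Quotient.mk_eq_zero (I ^ n)).2 ha, map_zero]

variable {I} {J : DRing.Cx A}

/-- The torsion element given by a chain map out of `A/I^n`. -/
noncomputable def val {n : ℕ} (g : quotSgl I n ⟶ J) : ((ΓC I).obj J).X 0 :=
  (⟨(g.f 0).hom (u1 I n), n, fun a ha => by rw [← map_smul, smul_u1 I n ha, map_zero]⟩ :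
    DRing.torsionSub I (J.X 0))

lemma d_val {n : ℕ} (g : quotSgl I n ⟶ J) : (((ΓC I).obj J).d 0 (0 + 1)).hom (val g) = 0 := by
  refine Subtype.ext ?_
  show (g.f 0 ≫ J.d 0 (0 + 1)).hom (u1 I n) = 0
  rw [g.comm, HomologicalComplex.single_obj_d, zero_comp]
  rfl

/-- Its class. -/
noncomputable def clsG {n : ℕ} (g : quotSgl I n ⟶ J) : ((ΓC I).obj J).homology 0 :=
  cls _ 0 (val g) (d_val g)

lemma cls_congr (Z : DRing.Cx A) (i : ℤ) {z z' : Z.X i} (h : z = z') (hz : (Z.d i (i + 1)).hom z = 0)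
    (hz' : (Z.d i (i + 1)).hom z' = 0) : cls Z i z hz = cls Z i z' hz' := by
  subst h
  rfl

lemma clsG_add {n : ℕ} (g g' : quotSgl I n ⟶ J) : clsG (g + g') = clsG g + clsG g' :=
  (cls_congr _ 0 (Subtype.ext rfl : val (g + g') = val g + val g') _
    ((map_add _ _ _).trans (by rw [d_val g, d_val g', add_zero]))).trans
    (cls_add _ 0 _ _ (d_val g) (d_val g') _)

lemma clsG_smul {n : ℕ} (a : A) (g : quotSgl I n ⟶ J) : clsG (a • g) = a • clsG g :=
  (cls_congr _ 0 (Subtype.ext rfl : val (a • g) = a • val g) _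
    ((map_smul _ _ _).trans (by rw [d_val g, smul_zero]))).trans
    (cls_smul _ 0 a _ (d_val g) _)

lemma clsG_eq_zero_of_homotopy {n : ℕ} (g : quotSgl I n ⟶ J) (H : Homotopy g 0) : clsG g = 0 := by
  refine (cls_eq_zero_iff _ 0 _ _).2 ⟨(⟨(H.hom 0 (0 - 1)).hom (u1 I n), n, fun a ha => by
    rw [← map_smul, smul_u1 I n ha, map_zero]⟩ : DRing.torsionSub I (J.X (0 - 1))), Subtype.ext ?_⟩
  have hc := H.comm 0
  rw [dNext_eq _ (show (ComplexShape.up ℤ).Rel 0 (0 + 1) by simp),
    prevD_eq _ (show (ComplexShape.up ℤ).Rel (0 - 1) 0 by simp), HomologicalComplex.single_obj_d,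
    zero_comp, zero_add, HomologicalComplex.zero_f, add_zero] at hc
  exact congr($(hc.symm).hom (u1 I n))

lemma homotopy_of_clsG_eq_zero {n : ℕ} (g : quotSgl I n ⟶ J) (h : clsG g = 0) :
    ∃ (m : ℕ) (hm : I ^ m ≤ I ^ n), Nonempty (Homotopy ((HomologicalComplex.single (ModuleCat.{u} A)
      (ComplexShape.up ℤ) 0).map (ModuleCat.ofHom (Submodule.mapQ (I ^ m) (I ^ n) LinearMap.id hm)) ≫ g) 0) := by
  obtain ⟨w, hw⟩ := (cls_eq_zero_iff _ 0 _ _).1 h
  obtain ⟨k, hk⟩ := (w : DRing.torsionSub I (J.X (0 - 1))).2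
  refine ⟨n + k, Ideal.pow_le_pow_right (Nat.le_add_right n k), ?_⟩
  let φ : ModuleCat.of A (A ⧸ I ^ (n + k)) ⟶ J.X (0 - 1) :=
    ModuleCat.ofHom (Submodule.liftQ _ (LinearMap.toSpanSingleton A _ w.1) fun a ha => LinearMap.mem_ker.2
      ((LinearMap.toSpanSingleton_apply A _ w.1 a).trans (hk a (Ideal.pow_le_pow_right (Nat.le_add_left k n) ha))))
  let hh : ∀ i j, (ComplexShape.up ℤ).Rel j i → ((quotSgl I (n + k)).X i ⟶ J.X j) := fun i j hji =>
    if hi : i = 0 then
      (HomologicalComplex.singleObjXIsoOfEq (ComplexShape.up ℤ) 0 _ i hi).hom ≫ φ ≫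
        (J.XIsoOfEq (show 0 - 1 = j by subst hi; have : j + 1 = 0 := hji; omega)).hom
    else 0
  refine ⟨(Homotopy.ofEq ?_).trans (Homotopy.nullHomotopy' hh)⟩
  refine HomologicalComplex.from_single_hom_ext ?_
  rw [Homotopy.nullHomotopicMap'_f (show (ComplexShape.up ℤ).Rel (0 - 1) 0 by simp)
    (show (ComplexShape.up ℤ).Rel 0 (0 + 1) by simp), HomologicalComplex.single_obj_d, zero_comp, zero_add,
    HomologicalComplex.comp_f, HomologicalComplex.single_map_f_self]
  simp only [hh, dif_pos, HomologicalComplex.XIsoOfEq_rfl, Iso.refl_hom, Category.comp_id, Category.assoc]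
  refine (cancel_epi (HomologicalComplex.singleObjXSelf (ComplexShape.up ℤ) 0
    (ModuleCat.of A (A ⧸ I ^ (n + k)))).inv).1 ?_
  simp only [HomologicalComplex.singleObjXSelf, Iso.inv_hom_id_assoc]
  refine ModuleCat.hom_ext (Submodule.linearMap_qext _ (LinearMap.ext_ring ?_))
  show (g.f 0).hom (u1 I n) = (J.d (0 - 1) 0).hom (Submodule.liftQ _ _ _ (Submodule.Quotient.mk (1 : A)))
  rw [Submodule.liftQ_apply, LinearMap.toSpanSingleton_apply_one]
  exact (congrArg Subtype.val hw).symm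

lemma exists_clsG (x : ((ΓC I).obj J).homology 0) : ∃ (n : ℕ) (g : quotSgl I n ⟶ J), clsG g = x := by
  obtain ⟨z, hz, rfl⟩ := exists_cls _ _ x
  obtain ⟨n, hn⟩ := (z : DRing.torsionSub I (J.X 0)).2
  let φ : ModuleCat.of A (A ⧸ I ^ n) ⟶ J.X 0 :=
    ModuleCat.ofHom (Submodule.liftQ _ (LinearMap.toSpanSingleton A _ z.1) fun a ha =>
      LinearMap.mem_ker.2 ((LinearMap.toSpanSingleton_apply A _ z.1 a).trans (hn a ha)))
  let g : quotSgl I n ⟶ J := HomologicalComplex.mkHomFromSingle φ fun i (hi : 0 + 1 = i) => by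
    subst hi
    refine ModuleCat.hom_ext (Submodule.linearMap_qext _ (LinearMap.ext_ring ?_))
    show (J.d 0 (0 + 1)).hom (Submodule.liftQ _ _ _ (Submodule.Quotient.mk (1 : A))) = _
    rw [Submodule.liftQ_apply, LinearMap.toSpanSingleton_apply_one]
    exact congrArg Subtype.val hz
  refine ⟨n, g, cls_congr _ 0 (Subtype.ext ?_) _ _⟩
  show (g.f 0).hom (u1 I n) = z.1
  have hgf : g.f 0 = (HomologicalComplex.singleObjXSelf (ComplexShape.up ℤ) 0 (ModuleCat.of A (A ⧸ I ^ n))).hom ≫ φ :=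
    HomologicalComplex.mkHomFromSingle_f _ _
  rw [hgf]
  show φ.hom (((HomologicalComplex.singleObjXSelf (ComplexShape.up ℤ) 0 (ModuleCat.of A (A ⧸ I ^ n))).inv ≫
    (HomologicalComplex.singleObjXSelf (ComplexShape.up ℤ) 0 (ModuleCat.of A (A ⧸ I ^ n))).hom).hom
      (Submodule.Quotient.mk (1 : A))) = z.1
  rw [Iso.inv_hom_id]
  exact LinearMap.toSpanSingleton_apply_one A _ z.1

section Classes

variable [CochainComplex.IsKInjective J] {W : Dual.D A} (e : DRing.toD J ≅ W)

lemma clsG_eq_of_Q {n : ℕ} {g g' : quotSgl I n ⟶ J} (h : DerivedCategory.Q.map g = DerivedCategory.Q.map g') :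
    clsG g = clsG g' := by
  obtain ⟨H⟩ := RHom.nonempty_homotopy_of_Q_map (g - g') (by rw [Functor.map_sub, h, sub_self])
  rw [← sub_add_cancel g g', clsG_add, clsG_eq_zero_of_homotopy _ H, zero_add]

/-- A lift to complexes. -/
noncomputable def liftG {n : ℕ} (x : DRing.toD (quotSgl I n) ⟶ W) : quotSgl I n ⟶ J :=
  (DComplete.exists_Q_map_eq (x ≫ e.inv)).choose

lemma Q_liftG {n : ℕ} (x : DRing.toD (quotSgl I n) ⟶ W) : DerivedCategory.Q.map (liftG e x) = x ≫ e.inv :=
  (DComplete.exists_Q_map_eq (x ≫ e.inv)).choose_spec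

/-- Morphisms out of `A/I^n` give classes. -/
noncomputable def ψ (n : ℕ) : (DRing.toD (quotSgl I n) ⟶ W) →ₗ[A] ((ΓC I).obj J).homology 0 where
  toFun x := clsG (liftG e x)
  map_add' x y := (clsG_eq_of_Q (by rw [Q_liftG, Functor.map_add, Q_liftG, Q_liftG, Preadditive.add_comp])).trans
    (clsG_add _ _)
  map_smul' a x := (clsG_eq_of_Q (by rw [Q_liftG, Functor.map_smul, Q_liftG, Linear.smul_comp])).trans
    (clsG_smul a _)

lemma ψ_map {m n : ℕ} (hm : I ^ m ≤ I ^ n) (x : DRing.toD (quotSgl I n) ⟶ W) :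
    ψ e m (DerivedCategory.Q.map ((HomologicalComplex.single (ModuleCat.{u} A) (ComplexShape.up ℤ) 0).map
      (ModuleCat.ofHom (Submodule.mapQ (I ^ m) (I ^ n) LinearMap.id hm))) ≫ x) = ψ e n x := by
  let φ := (HomologicalComplex.single (ModuleCat.{u} A) (ComplexShape.up ℤ) 0).map
      (ModuleCat.ofHom (Submodule.mapQ (I ^ m) (I ^ n) LinearMap.id hm))
  have h1 : ψ e m (DerivedCategory.Q.map φ ≫ x) = clsG (φ ≫ liftG e x) :=
    clsG_eq_of_Q (by rw [Q_liftG, Functor.map_comp, Q_liftG, Category.assoc])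
  refine h1.trans (cls_congr _ 0 (Subtype.ext ?_) (d_val _) (d_val _))
  show ((liftG e x).f 0).hom ((φ.f 0).hom (u1 I m)) = ((liftG e x).f 0).hom (u1 I n)
  refine congrArg _ ?_
  simp only [φ, HomologicalComplex.single_map_f_self, u1]
  show (HomologicalComplex.singleObjXSelf (ComplexShape.up ℤ) 0 (ModuleCat.of A (A ⧸ I ^ n))).inv.hom
    (Submodule.mapQ (I ^ m) (I ^ n) LinearMap.id hm
      (((HomologicalComplex.singleObjXSelf (ComplexShape.up ℤ) 0 (ModuleCat.of A (A ⧸ I ^ m))).inv ≫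
        (HomologicalComplex.singleObjXSelf (ComplexShape.up ℤ) 0 (ModuleCat.of A (A ⧸ I ^ m))).hom).hom
          (Submodule.Quotient.mk (1 : A)))) = _
  rw [Iso.inv_hom_id]
  rfl

variable (I)

/-- The system of morphisms out of `A/I^n`. -/
noncomputable abbrev homSys (W : Dual.D A) : ℕᵒᵖᵒᵖ ⥤ ModuleCat.{u + 1} A :=
  (localCohomology.ringModIdeals (localCohomology.idealPowersDiagram I) ⋙
      DerivedCategory.singleFunctor (ModuleCat.{u} A) 0).op ⋙ (linearYoneda A (Dual.D A)).obj W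

/-- The comparison. -/
noncomputable def comparison : (colimit (homSys I W) : ModuleCat.{u + 1} A) →ₗ[A] ((ΓC I).obj J).homology 0 :=
  ULift.moduleEquiv.toLinearMap ∘ₗ (colimit.desc (homSys I W)
    { pt := ModuleCat.of A (ULift.{u + 1} (((ΓC I).obj J).homology 0))
      ι :=
        { app := fun j => ModuleCat.ofHom (ULift.moduleEquiv.symm.toLinearMap ∘ₗ ψ e j.unop.unop)
          naturality := fun j k f => ModuleCat.hom_ext (LinearMap.ext fun x =>
            congrArg ULift.up (ψ_map e (Ideal.pow_le_pow_right (leOfHom f.unop.unop)) x)) } }).hom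

lemma comparison_ι (j : ℕᵒᵖᵒᵖ) (x : (homSys I W).obj j) :
    comparison I e ((colimit.ι (homSys I W) j).hom x) = ψ e j.unop.unop x := by
  rw [comparison, LinearMap.comp_apply, ← ConcreteCategory.comp_apply, colimit.ι_desc]
  rfl

instance preservesColimits_forget (R : Type u) [CommRing R] :
    PreservesColimitsOfShape ℕᵒᵖᵒᵖ (forget (ModuleCat.{u + 1} R)) := by
  haveI : PreservesFilteredColimitsOfSize.{0, 0} (forget AddCommGrpCat.{u + 1}) :=
    preservesFilteredColimitsOfSize_shrink.{0, u + 1, 0, u + 1} _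
  exact inferInstanceAs (PreservesColimitsOfShape ℕᵒᵖᵒᵖ
    (forget₂ (ModuleCat.{u + 1} R) AddCommGrpCat.{u + 1} ⋙ forget AddCommGrpCat.{u + 1}))

theorem bijective_comparison : Function.Bijective (comparison I e) := by
  refine ⟨(injective_iff_map_eq_zero _).2 fun z hz => ?_, fun y => ?_⟩
  · obtain ⟨j, x, rfl⟩ := Concrete.colimit_exists_rep (homSys I W) z
    let x' : DRing.toD (quotSgl I j.unop.unop) ⟶ W := x
    have hz' : clsG (liftG e x') = 0 := (comparison_ι I e j x).symm.trans hz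
    obtain ⟨m, hm, ⟨H⟩⟩ := homotopy_of_clsG_eq_zero _ hz'
    let f : j ⟶ Opposite.op (Opposite.op (max j.unop.unop m)) := (homOfLE (le_max_left _ _)).op.op
    rw [← colimit.w (homSys I W) f]
    show (colimit.ι (homSys I W) _).hom (((homSys I W).map f).hom x) = 0
    refine (congrArg _ (?_ : ((homSys I W).map f).hom x = 0)).trans (map_zero _)
    have h1 : DerivedCategory.Q.map ((HomologicalComplex.single (ModuleCat.{u} A) (ComplexShape.up ℤ) 0).map
        (ModuleCat.ofHom (Submodule.mapQ (I ^ m) (I ^ j.unop.unop) LinearMap.id hm))) ≫ x' = 0 :=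
      (cancel_mono e.inv).1 (by
        rw [Category.assoc, ← Q_liftG e x', ← Functor.map_comp, DerivedCategory.Q_map_eq_of_homotopy (h := H),
          Functor.map_zero, zero_comp])
    show DerivedCategory.Q.map ((HomologicalComplex.single (ModuleCat.{u} A) (ComplexShape.up ℤ) 0).map
      (ModuleCat.ofHom (Submodule.mapQ (I ^ max j.unop.unop m) (I ^ j.unop.unop) LinearMap.id
        (Ideal.pow_le_pow_right (le_max_left _ _))))) ≫ x' = 0
    have hfac : (ModuleCat.ofHom (Submodule.mapQ (I ^ max j.unop.unop m) (I ^ j.unop.unop) LinearMap.id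
        (Ideal.pow_le_pow_right (le_max_left _ _))) : ModuleCat.of A (A ⧸ I ^ max j.unop.unop m) ⟶ _) =
        ModuleCat.ofHom (Submodule.mapQ (I ^ max j.unop.unop m) (I ^ m) LinearMap.id
          (Ideal.pow_le_pow_right (le_max_right _ _))) ≫
          ModuleCat.ofHom (Submodule.mapQ (I ^ m) (I ^ j.unop.unop) LinearMap.id hm) :=
      ModuleCat.hom_ext (Submodule.linearMap_qext _ (LinearMap.ext fun _ => rfl))
    rw [hfac, Functor.map_comp, Functor.map_comp, Category.assoc, h1, comp_zero]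
  · obtain ⟨n, g, hg⟩ := exists_clsG y
    refine ⟨(colimit.ι (homSys I W) (Opposite.op (Opposite.op n))).hom (DerivedCategory.Q.map g ≫ e.hom), ?_⟩
    refine (comparison_ι I e _ _).trans ((clsG_eq_of_Q ?_).trans hg)
    exact (Q_liftG e _).trans ((Category.assoc _ _ _).trans
      ((congrArg (DerivedCategory.Q.map g ≫ ·) e.hom_inv_id).trans (Category.comp_id _)))

end Classes

variable (I)

/-- `Γ_I` commutes with shifts. -/
noncomputable def ΓCshift (J : DRing.Cx A) (q : ℤ) : (ΓC I).obj (J⟦q⟧) ≅ ((ΓC I).obj J)⟦q⟧ :=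
  HomologicalComplex.Hom.isoOfComponents (fun _ => Iso.refl _) (fun i j _ => by
    refine ModuleCat.hom_ext (LinearMap.ext fun x => ?_)
    rfl)

theorem nonempty_equiv_HDI [DRing.HasRgammaI I] (K : Dual.D A) (q : ℤ) :
    Nonempty (Dual.HD A ((DRing.RgammaI I).obj K) q ≃ₗ[A] Dual2.HDI A I K q) := by
  obtain ⟨J, hJ, -, ⟨e⟩⟩ := exists_model K
  let e1 : DRing.toD (J⟦q⟧) ≅ K⟦q⟧ :=
    (DerivedCategory.Q.commShiftIso q).app J ≪≫ (shiftFunctor (Dual.D A) q).mapIso e
  let h1 := (PCoh.hEquiv q ((DRing.RgammaI I).mapIso e.symm ≪≫ rgObj I J)).trans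
    ((DerivedCategory.homologyFunctorFactors (ModuleCat.{u} A) q).app ((ΓC I).obj J)).toLinearEquiv
  let h2 : ((ΓC I).obj J).homology q ≅ ((ΓC I).obj (J⟦q⟧)).homology 0 :=
    (((HomologicalComplex.homologyFunctor (ModuleCat.{u} A) (ComplexShape.up ℤ) 0).shiftIso q 0 q (by simp)).app
      ((ΓC I).obj J)).symm ≪≫ HomologicalComplex.homologyMapIso (ΓCshift I J q).symm 0
  exact ⟨(h1.trans h2.toLinearEquiv).trans (LinearEquiv.ofBijective _ (bijective_comparison I e1)).symm⟩

end Groth.Agent.H4DR.RG
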