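import Groth.Agent.H4DR.RG.CechCompl
import Groth.Agent.H4DR.RG.HomColim
import Groth.Agent.H4DR.DComplete.Adic.Complex
import Groth.Agent.H24Adic.Basic
import Mathlib.LinearAlgebra.Matrix.Charpoly.LinearMap

/-!
# `H^0` of the completion of `RΓ_J M` over an adically complete ring
-/

set_option autoImplicit false
set_option linter.style.haveILetI false
set_option linter.unusedVariables false

universe u

open CategoryTheory CategoryTheory.Limits CochainComplex Pretriangulated
open Groth.Agent.H4DR.DComplete (acC ηC acF hQ hQ_naturality e0)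
open Groth.Agent.H4DR.PCoh (hm hm_comp_apply bijective_hm_of_isIso)
open Groth.Agent.H4DR.RHom (cls exists_cls cls_eq_zero_iff homologyMap_cls iCycles_cls)

attribute [local instance] HasDerivedCategory.standard

namespace Groth.Agent.H4DR.RG

variable {A : Type u} [CommRing A]

section Krull

variable (I : Ideal A) (M : Type u) [AddCommGroup M] [Module A M]

/-- The kernel of `M → (M_f)^`. -/
def LocDiv (f : A) (s : M) : Prop := ∀ n : ℕ, ∃ k : ℕ, f ^ k • s ∈ (I ^ n • ⊤ : Submodule A M)

/-- The submodule of such elements. -/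
def locDivSub (f : A) : Submodule A M where
  carrier := {s | LocDiv I M f s}
  zero_mem' n := ⟨0, by rw [smul_zero]; exact zero_mem _⟩
  add_mem' := fun {a b} ha hb n => by
    obtain ⟨k, hk⟩ := ha n
    obtain ⟨l, hl⟩ := hb n
    refine ⟨k + l, ?_⟩
    rw [smul_add]
    refine add_mem ?_ ?_
    · rw [pow_add, mul_comm, mul_smul]; exact Submodule.smul_mem _ _ hk
    · rw [pow_add, mul_smul]; exact Submodule.smul_mem _ _ hl
  smul_mem' c a ha n := by
    obtain ⟨k, hk⟩ := ha n
    exact ⟨k, by rw [smul_comm]; exact Submodule.smul_mem _ _ hk⟩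

theorem locDiv_iff [IsNoetherianRing A] [Module.Finite A M] (f : A) (s : M) :
    LocDiv I M f s ↔ ∃ (K : ℕ), ∃ i ∈ I, (f ^ K - i) • s = 0 := by
  classical
  constructor
  · intro hs
    let N := locDivSub I M f
    obtain ⟨c, hc⟩ := Ideal.exists_pow_inf_eq_pow_smul I N
    haveI : Module.Finite A N := Module.Finite.of_fg (IsNoetherian.noetherian N)
    obtain ⟨t, ht⟩ := (IsNoetherian.noetherian (⊤ : Submodule A N))
    choose k hk using fun y : N => y.2 (c + 1)
    let K := t.sup k
    have hK : ∀ y : N, y ∈ (⊤ : Submodule A N) → f ^ K • (y : M) ∈ (I ^ (c + 1) • ⊤ : Submodule A M) := by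
      intro y hy
      rw [← ht] at hy
      induction hy using Submodule.span_induction with
      | mem y hy =>
        obtain ⟨d, hd⟩ := Nat.exists_eq_add_of_le (Finset.le_sup (f := k) hy)
        rw [show f ^ K = f ^ d * f ^ k y by rw [show K = k y + d from hd, pow_add, mul_comm], mul_smul]
        exact Submodule.smul_mem _ _ (hk y)
      | zero => rw [Submodule.coe_zero, smul_zero]; exact zero_mem _
      | add u v _ _ hu hv => rw [Submodule.coe_add, smul_add]; exact add_mem hu hv
      | smul a u _ hu => rw [Submodule.coe_smul, smul_comm]; exact Submodule.smul_mem _ _ hu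
    have hle : LinearMap.range (algebraMap A (Module.End A N) (f ^ K)) ≤ I • ⊤ := by
      rintro _ ⟨y, rfl⟩
      have h1 : f ^ K • (y : M) ∈ (I ^ (c + 1) • ⊤ ⊓ N : Submodule A M) :=
        ⟨hK y trivial, Submodule.smul_mem N _ y.2⟩
      rw [hc (c + 1) (by omega), Nat.add_sub_cancel_left, pow_one] at h1
      have h2 : f ^ K • (y : M) ∈ Submodule.map N.subtype (I • ⊤) := by
        rw [Submodule.map_smul'', Submodule.map_top, Submodule.range_subtype]
        exact Submodule.smul_mono le_rfl inf_le_right h1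
      obtain ⟨w, hw, hwy⟩ := h2
      rwa [show algebraMap A (Module.End A N) (f ^ K) y = w from Subtype.ext hwy.symm]
    obtain ⟨p, hp, -, hpI, hp0⟩ :=
      LinearMap.exists_monic_and_natDegree_eq_and_coeff_mem_pow_and_aeval_eq_zero (hI := hle)
    rw [Polynomial.aeval_algebraMap_apply_eq_algebraMap_eval] at hp0
    have h0 : p.eval (f ^ K) • s = 0 := congrArg Subtype.val (LinearMap.congr_fun hp0 ⟨s, hs⟩)
    have hmem : p.eval (f ^ K) - f ^ (K * p.natDegree) ∈ I := by
      rw [Polynomial.eval_eq_sum_range, Finset.sum_range_succ, hp.coeff_natDegree, one_mul, ← pow_mul,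
        add_sub_cancel_right]
      refine Ideal.sum_mem _ fun k hk => Ideal.mul_mem_right _ _ (Ideal.pow_le_self ?_ (hpI k))
      have := Finset.mem_range.1 hk
      omega
    exact ⟨K * p.natDegree, _, neg_mem hmem, by rw [sub_neg_eq_add, add_sub_cancel]; exact h0⟩
  · rintro ⟨K, i, hi, h⟩ n
    rw [sub_smul, sub_eq_zero] at h
    refine ⟨K * n, ?_⟩
    have : f ^ (K * n) • s = i ^ n • s := by
      induction n with
      | zero => simp
      | succ n ih => rw [Nat.mul_succ, pow_add, mul_smul, h, smul_comm, ih, smul_smul, ← pow_succ']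
    rw [this]
    exact Submodule.smul_mem_smul (Ideal.pow_mem_pow hi n) Submodule.mem_top

theorem forall_locDiv_iff [IsNoetherianRing A] [Module.Finite A M] {J : Ideal A} {fs : List A}
    (hfs : Ideal.ofList fs = J) (s : M) :
    (∀ f ∈ fs, LocDiv I M f s) ↔
      ∃ J' : Ideal A, J' ≤ J ∧ J ≤ (J' ⊔ I).radical ∧ s ∈ DRing.torsionSub J' M := by
  constructor
  · intro h
    choose K i hi he using fun f (hf : f ∈ fs) => (locDiv_iff I M f s).1 (h f hf)
    refine ⟨Ideal.span {a | ∃ (f : A) (hf : f ∈ fs), a = f * (f ^ K f hf - i f hf)}, ?_, ?_, 1, fun a ha => ?_⟩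
    · refine Ideal.span_le.2 ?_
      rintro _ ⟨f, hf, rfl⟩
      exact Ideal.mul_mem_right _ _ (hfs ▸ mem_ofList hf)
    · rw [← hfs]
      refine Ideal.span_le.2 fun f (hf : f ∈ fs) => ⟨K f hf + 1, ?_⟩
      have e : f ^ (K f hf + 1) = f * (f ^ K f hf - i f hf) + f * i f hf := by ring
      rw [e]
      exact Submodule.add_mem_sup (Ideal.subset_span ⟨f, hf, rfl⟩) (Ideal.mul_mem_left _ _ (hi f hf))
    · rw [pow_one] at ha
      induction ha using Submodule.span_induction with
      | mem a ha =>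
        obtain ⟨f, hf, rfl⟩ := ha
        rw [mul_smul, he f hf, smul_zero]
      | zero => exact zero_smul _ _
      | add u v _ _ hu hv => rw [add_smul, hu, hv, add_zero]
      | smul c u _ hu => rw [smul_eq_mul, mul_smul, hu, smul_zero]
  · rintro ⟨J', -, hrad, m, hm⟩ f hf n
    obtain ⟨k, hk⟩ := hrad (hfs ▸ mem_ofList hf)
    refine ⟨k * (m + n), ?_⟩
    rw [pow_mul]
    obtain ⟨b, hb, c, hc, he⟩ := Submodule.mem_sup.1
      (Ideal.sup_pow_add_le_pow_sup_pow (Ideal.pow_mem_pow hk (m + n)))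
    rw [← he, add_smul, hm b hb, zero_add]
    exact Submodule.smul_mem_smul hc Submodule.mem_top

end Krull

lemma mem_smul_top_equiv {X Y : Type u} [AddCommGroup X] [Module A X] [AddCommGroup Y] [Module A Y]
    (e : X ≃ₗ[A] Y) (a : Ideal A) (x : X) : x ∈ (a • ⊤ : Submodule A X) ↔ e x ∈ (a • ⊤ : Submodule A Y) := by
  have : Submodule.map e.toLinearMap (a • ⊤ : Submodule A X) = (a • ⊤ : Submodule A Y) := by
    rw [Submodule.map_smul'', Submodule.map_top, LinearEquiv.range]
  rw [← this]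
  exact (Function.Injective.mem_set_image e.injective).symm

lemma mem_smul_top_prod {X Y : Type u} [AddCommGroup X] [Module A X] [AddCommGroup Y] [Module A Y]
    (a : Ideal A) (w : X × Y) :
    w ∈ (a • ⊤ : Submodule A (X × Y)) ↔ w.1 ∈ (a • ⊤ : Submodule A X) ∧ w.2 ∈ (a • ⊤ : Submodule A Y) := by
  refine ⟨fun hw => ?_, fun ⟨h1, h2⟩ => ?_⟩
  · refine Submodule.smul_induction_on hw (fun r hr p _ => ?_) (fun p q hp hq => ⟨add_mem hp.1 hq.1, add_mem hp.2 hq.2⟩)
    exact ⟨Submodule.smul_mem_smul hr Submodule.mem_top, Submodule.smul_mem_smul hr Submodule.mem_top⟩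
  · rw [show w = LinearMap.inl A X Y w.1 + LinearMap.inr A X Y w.2 from Prod.ext (by simp) (by simp)]
    exact add_mem (Submodule.smul_top_le_comap_smul_top _ (LinearMap.inl A X Y) h1)
      (Submodule.smul_top_le_comap_smul_top _ (LinearMap.inr A X Y) h2)

lemma augC_f (M : ModuleCat.{u} A) : ∀ (fs : List A) (x : (DerCA.extCech M fs).X 0),
    (HomologicalComplex.singleObjXSelf (ComplexShape.up ℤ) 0 M).hom.hom (((augC M fs).f 0).hom x) =
      H4Cech.aug M fs x := by
  intro fs
  induction fs with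
  | nil => exact fun x => rfl
  | cons f fs ih => exact fun x => ih _

theorem d_mem_iff (I : Ideal A) (M : ModuleCat.{u} A) (n : ℕ) : ∀ (fs : List A) (x : (DerCA.extCech M fs).X 0),
    ((DerCA.extCech M fs).d 0 1).hom x ∈ (I ^ n • ⊤ : Submodule A ((DerCA.extCech M fs).X 1)) ↔
      ∀ f ∈ fs, ∃ k : ℕ, f ^ k • H4Cech.aug M fs x ∈ (I ^ n • ⊤ : Submodule A M) := by
  intro fs
  induction fs with
  | nil =>
    intro x
    refine iff_of_true ?_ fun f hf => absurd hf List.not_mem_nil
    rw [@Subsingleton.elim _ (subsingleton_single M 1 one_ne_zero) (((DerCA.extCech M []).d 0 1).hom x) 0]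
    exact zero_mem _
  | cons f fs ih =>
    intro x
    have hneg : ∀ z : LocalizedModule (Submonoid.powers f) ((DerCA.extCech M fs).X (-1)), z = 0 := fun z => by
      induction z using LocalizedModule.induction_on with
      | h y s => rw [@Subsingleton.elim _ (H4Cech.subsingleton_X_of_neg M fs (-1) (by omega)) y 0, LocalizedModule.zero_mk]
    refine (mem_smul_top_equiv (H4Cech.kl (DerCA.locCxUnit (Submonoid.powers f) (DerCA.extCech M fs)) 0 1 rfl) _ _).trans
      ((mem_smul_top_prod _ _).trans ?_)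
    refine (and_congr (Iff.rfl : H4Cech.fC M f fs 1 _ ∈ _ ↔ _) (Iff.rfl : H4Cech.sC M f fs 0 1 rfl _ ∈ _ ↔ _)).trans ?_
    rw [H4Cech.fC_d, H4Cech.sC_d M f fs (q := -1) (p := 0) (p' := 1) (by omega) rfl, hneg (H4Cech.sC M f fs (-1) 0 _ x), map_zero,
      sub_zero]
    refine (and_congr (ih _) (Submodule.neg_mem_iff _)).trans ?_
    rw [List.forall_mem_cons, H4Cech.aug_cons]
    refine and_comm.trans (and_congr ?_ Iff.rfl)
    constructor
    · intro h
      obtain ⟨j, ⟨_, k, rfl⟩, hj, he⟩ := DComplete.mem_smul_top_localized (I ^ n) h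
      obtain ⟨⟨_, l, rfl⟩, hl⟩ := LocalizedModule.mk_eq.1 he
      simp only [Submonoid.smul_def, one_smul] at hl
      refine ⟨l + k, ?_⟩
      rw [pow_add, mul_smul, ← map_smul, ← map_smul, hl]
      exact Submodule.smul_top_le_comap_smul_top _ (H4Cech.aug M fs) (Submodule.smul_mem _ _ hj)
    · rintro ⟨k, hk⟩
      rw [← map_smul] at hk
      have hk' : f ^ k • H4Cech.fC M f fs 0 x ∈ (I ^ n • ⊤ : Submodule A ((DerCA.extCech M fs).X 0)) :=
        (mem_smul_top_equiv (LinearEquiv.ofBijective _ (H4Cech.aug_bijective M fs)) _ _).2 hk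
      have e : LocalizedModule.mk (H4Cech.fC M f fs 0 x) (1 : Submonoid.powers f) =
          LocalizedModule.mk (f ^ k • H4Cech.fC M f fs 0 x) (⟨f ^ k, pow_mem (Submonoid.mem_powers f) k⟩) := by
        refine LocalizedModule.mk_eq.2 ⟨1, ?_⟩
        simp [Submonoid.smul_def]
      rw [e]
      exact DComplete.mk_mem_smul_top _ _ hk'

lemma hQ_e0_symm (M : ModuleCat.{u} A) (s : M)
    (hs : (((Hom.sgl 0 M).d 0 (0 + 1)).hom ((HomologicalComplex.singleObjXSelf (ComplexShape.up ℤ) 0 M).inv.hom s)) = 0) :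
    hQ (Hom.sgl 0 M) 0 ((e0 M).symm s) =
      cls (Hom.sgl 0 M) 0 ((HomologicalComplex.singleObjXSelf (ComplexShape.up ℤ) 0 M).inv.hom s) hs := by
  let σ := HomologicalComplex.singleObjHomologySelfIso (ComplexShape.up ℤ) 0 M
  have hi : ((DerivedCategory.singleFunctorsPostcompQIso (ModuleCat.{u} A)).hom.hom 0).app M = 𝟙 _ := by
    show DerivedCategory.Qh.map (𝟙 ((HomotopyCategory.quotient (ModuleCat.{u} A) (ComplexShape.up ℤ)).obj (Hom.sgl 0 M))) ≫
      𝟙 (DerivedCategory.Q.obj (Hom.sgl 0 M)) ≫ 𝟙 (DerivedCategory.Q.obj (Hom.sgl 0 M)) = 𝟙 (DerivedCategory.Q.obj (Hom.sgl 0 M))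
    exact (congrArg (· ≫ _) (CategoryTheory.Functor.map_id _ _)).trans ((Category.id_comp _).trans (Category.id_comp _))
  have he' : ((DerivedCategory.singleFunctorCompHomologyFunctorIso (ModuleCat.{u} A) 0).app M).hom =
      (DerivedCategory.homologyFunctorFactors (ModuleCat.{u} A) 0).hom.app (Hom.sgl 0 M) ≫ σ.hom := by
    show (DerivedCategory.homologyFunctor (ModuleCat.{u} A) 0).map
        (((DerivedCategory.singleFunctorsPostcompQIso (ModuleCat.{u} A)).hom.hom 0).app M) ≫ 𝟙 _ ≫
        (DerivedCategory.homologyFunctorFactors (ModuleCat.{u} A) 0).hom.app (Hom.sgl 0 M) ≫ σ.hom = _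
    rw [hi]
    exact (congrArg (· ≫ _) (CategoryTheory.Functor.map_id _ _)).trans (Category.id_comp _)
  have he : ∀ y, σ.hom.hom (hQ (Hom.sgl 0 M) 0 y) = e0 M y := fun y =>
    congrArg (fun t => t.hom y) he'.symm
  refine σ.toLinearEquiv.injective ((he _).trans ((e0 M).apply_symm_apply s |>.trans ?_))
  show s = (HomologicalComplex.homologyπ _ 0 ≫ σ.hom).hom _
  rw [HomologicalComplex.homologyπ_singleObjHomologySelfIso_hom, HomologicalComplex.singleObjCyclesSelfIso_hom]
  exact ((congrArg (fun t => (HomologicalComplex.singleObjXSelf (ComplexShape.up ℤ) 0 M).hom.hom t)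
    (iCycles_cls (Hom.sgl 0 M) 0 _ hs)).trans
    congr($((HomologicalComplex.singleObjXSelf (ComplexShape.up ℤ) 0 M).inv_hom_id).hom s)).symm

variable [IsNoetherianRing A] (I : Ideal A) [IsAdicComplete I A] {J : Ideal A} [DRing.HasRgammaI J]
  [DRing.HasDerivedCompletion I] (M : ModuleCat.{u} A) [Module.Finite A M] {fs : List A}

theorem h0_completion_rgamma (hfs : Ideal.ofList fs = J) :
    Function.Injective (hm 0 ((ObjectProperty.ι (DRing.IsDerivedComplete I)).map
      ((DRing.derivedCompletion I).map ((DRing.RgammaIε J).app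
        ((DerivedCategory.singleFunctor (ModuleCat.{u} A) 0).obj M))))) ∧
    Set.range (hm 0 ((ObjectProperty.ι (DRing.IsDerivedComplete I)).map
      ((DRing.derivedCompletion I).map ((DRing.RgammaIε J).app
        ((DerivedCategory.singleFunctor (ModuleCat.{u} A) 0).obj M))))) =
      (fun s : M => hm 0 (DRing.toDerivedCompletion I ((DerivedCategory.singleFunctor (ModuleCat.{u} A) 0).obj M))
        ((e0 M).symm s)) '' {s : M | ∃ J' : Ideal A, J' ≤ J ∧ J ≤ (J' ⊔ I).radical ∧ s ∈ DRing.torsionSub J' M} := by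
  let C := DerCA.extCech M fs
  let S := Hom.sgl 0 M
  let R := (DRing.RgammaI J).obj ((DerivedCategory.singleFunctor (ModuleCat.{u} A) 0).obj M)
  let φ := (ObjectProperty.ι (DRing.IsDerivedComplete I)).map ((DRing.derivedCompletion I).map
    ((DRing.RgammaIε J).app ((DerivedCategory.singleFunctor (ModuleCat.{u} A) 0).obj M)))
  let ψ : acC I C ⟶ acC I S := ((acF I).mapHomologicalComplex (ComplexShape.up ℤ)).map (augC M fs)
  obtain ⟨E₁, hE₁⟩ := (DComplete.isCompletion_unit (I := I) R).exists_iso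
    ((isCompletion_cech I M fs).of_iso (cechIso hfs M).symm (Iso.refl _))
  obtain ⟨E₀, hE₀⟩ := (DComplete.isCompletion_unit (I := I)
    ((DerivedCategory.singleFunctor (ModuleCat.{u} A) 0).obj M)).exists_iso
    (DComplete.isCompletion_ηC_single I (IsNoetherian.noetherian I) 0 M
      ((DComplete.arTor_tensor M A).of_equiv (TensorProduct.rid A M)))
  have hsq : φ ≫ E₀.hom = E₁.hom ≫ DerivedCategory.Q.map ψ := by
    refine ((DComplete.isCompletion_unit (I := I) R).bij _ (DComplete.isDerivedComplete_of_iso E₀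
      ((DRing.derivedCompletion I).obj _).property)).1 ?_
    show DRing.toDerivedCompletion I R ≫ φ ≫ E₀.hom = DRing.toDerivedCompletion I R ≫ E₁.hom ≫ DerivedCategory.Q.map ψ
    have hu : DRing.toDerivedCompletion I R ≫ φ =
        (DRing.RgammaIε J).app _ ≫ DRing.toDerivedCompletion I
          ((DerivedCategory.singleFunctor (ModuleCat.{u} A) 0).obj M) :=
      ((DRing.derivedCompletionAdj I).unit.naturality ((DRing.RgammaIε J).app _)).symm
    refine (Category.assoc _ _ _).symm.trans ((congrArg (· ≫ E₀.hom) hu).trans ((Category.assoc _ _ _).trans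
      ((congrArg (_ ≫ ·) hE₀).trans (Eq.trans ?_ ((congrArg (· ≫ DerivedCategory.Q.map ψ) hE₁.symm).trans
        (Category.assoc _ _ _))))))
    refine (congrArg (· ≫ _) (cechIso_ε hfs M).symm).trans ((Category.assoc _ _ _).trans ?_)
    simp only [Iso.symm_inv, Iso.refl_hom, Category.comp_id, Category.assoc]
    refine congrArg ((cechIso hfs M).hom ≫ ·) ?_
    exact (DerivedCategory.Q.map_comp _ _).symm.trans
      ((congrArg DerivedCategory.Q.map (DComplete.ηC_naturality I (augC M fs))).trans (DerivedCategory.Q.map_comp _ _))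
  let g₁ := (PCoh.hEquiv 0 E₁).trans (hQ (acC I C) 0)
  let g₀ := (PCoh.hEquiv 0 E₀).trans (hQ (acC I S) 0)
  have key : ∀ y, g₀ (hm 0 φ y) = (HomologicalComplex.homologyMap ψ 0).hom (g₁ y) := fun y => by
    show hQ (acC I S) 0 (hm 0 E₀.hom (hm 0 φ y)) = _
    rw [← hm_comp_apply, hsq, hm_comp_apply]
    exact hQ_naturality ψ 0 (hm 0 E₁.hom y)
  let z₀ : M → (acC I S).X 0 := fun s =>
    AdicCompletion.of I _ ((HomologicalComplex.singleObjXSelf (ComplexShape.up ℤ) 0 M).inv.hom s)
  have hS1 : Subsingleton ((Hom.sgl 0 M).X (0 + 1)) := subsingleton_single M (0 + 1) (by norm_num)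
  have hS1' : ∀ z : (acC I S).X 0, ((acC I S).d 0 (0 + 1)).hom z = 0 := fun z =>
    @Subsingleton.elim _ (ModuleCat.subsingleton_of_isZero ((acF I).map_isZero
      (@ModuleCat.isZero_of_subsingleton _ _ _ hS1))) _ _
  have hunit : ∀ s : M, g₀ (hm 0 (DRing.toDerivedCompletion I ((DerivedCategory.singleFunctor (ModuleCat.{u} A) 0).obj M))
      ((e0 M).symm s)) = cls (acC I S) 0 (z₀ s) (hS1' _) := fun s => by
    show hQ (acC I S) 0 (hm 0 E₀.hom (hm 0 _ _)) = _
    rw [← hm_comp_apply, hE₀]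
    refine (hQ_naturality (ηC I S) 0 ((e0 M).symm s)).trans ?_
    rw [hQ_e0_symm M s (@Subsingleton.elim _ hS1 _ _), homologyMap_cls (ηC I S) 0 _ _ (hS1' _)]
    rfl
  haveI hc : IsAdicComplete I M := H24Adic.isAdicComplete_of_finite I
  let a0 : C.X 0 ≃ₗ[A] M := LinearEquiv.ofBijective _ (H4Cech.aug_bijective M fs)
  have hsurj : ∀ z : AdicCompletion I (C.X 0), ∃ x, AdicCompletion.of I (C.X 0) x = z := fun z => by
    obtain ⟨m, hm'⟩ := (AdicCompletion.of_bijective I M).2 (AdicCompletion.map I a0.toLinearMap z)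
    refine ⟨a0.symm m, ?_⟩
    refine (AdicCompletion.map_of I a0.symm.toLinearMap m).symm.trans ?_
    rw [hm', AdicCompletion.map_comp_apply, LinearEquiv.comp_coe, LinearEquiv.self_trans_symm]
    simp
  have hψ : ∀ x : C.X 0, (ψ.f 0).hom (AdicCompletion.of I (C.X 0) x) = z₀ (a0 x) := fun x => by
    refine (AdicCompletion.map_of I ((augC M fs).f 0).hom x).trans (congrArg (AdicCompletion.of I _) ?_)
    show _ = (HomologicalComplex.singleObjXSelf (ComplexShape.up ℤ) 0 M).inv.hom (H4Cech.aug M fs x)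
    rw [← augC_f]
    exact (congr($((HomologicalComplex.singleObjXSelf (ComplexShape.up ℤ) 0 M).hom_inv_id).hom
      (((augC M fs).f 0).hom x))).symm
  have hz₀ : ∀ s, cls (acC I S) 0 (z₀ s) (hS1' _) = 0 → s = 0 := fun s hs => by
    obtain ⟨b, hb⟩ := (cls_eq_zero_iff _ _ _ _).1 hs
    have h0 : z₀ s = 0 := by
      rw [← hb, @Subsingleton.elim _ (ModuleCat.subsingleton_of_isZero ((acF I).map_isZero
        (HomologicalComplex.isZero_single_obj_X (ComplexShape.up ℤ) 0 M (0 - 1) (by norm_num)))) b 0]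
      exact map_zero _
    have h1 := congrArg (AdicCompletion.map I (HomologicalComplex.singleObjXSelf (ComplexShape.up ℤ) 0 M).hom.hom) h0
    refine (AdicCompletion.of_bijective I M).1 ?_
    have h2 := (AdicCompletion.map_of I _ _).symm.trans (h1.trans (map_zero _))
    rw [map_zero, ← h2]
    exact congrArg _ (congr($((HomologicalComplex.singleObjXSelf (ComplexShape.up ℤ) 0 M).inv_hom_id).hom s)).symm
  have hd : ∀ x : C.X 0, ((acC I C).d 0 (0 + 1)).hom (AdicCompletion.of I (C.X 0) x) = 0 ↔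
      ∀ f ∈ fs, LocDiv I M f (a0 x) := fun x => by
    show AdicCompletion.map I (C.d 0 1).hom (AdicCompletion.of I (C.X 0) x) = 0 ↔ _
    rw [AdicCompletion.map_of]
    refine ⟨fun h f hf n => ?_, fun h => AdicCompletion.ext fun n => ?_⟩
    · exact (d_mem_iff I M n fs x).1 ((Submodule.Quotient.mk_eq_zero _).1
        (congrArg (fun t : AdicCompletion I (C.X 1) => t.val n) h)) f hf
    · exact (Submodule.Quotient.mk_eq_zero _).2 ((d_mem_iff I M n fs x).2 fun f hf => h f hf n)
  have hmap : ∀ (x : C.X 0) (hx : ((acC I C).d 0 (0 + 1)).hom (AdicCompletion.of I (C.X 0) x) = 0),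
      (HomologicalComplex.homologyMap ψ 0).hom (cls (acC I C) 0 _ hx) = cls (acC I S) 0 (z₀ (a0 x)) (hS1' _) :=
    fun x hx => (homologyMap_cls ψ 0 _ hx (hS1' _)).trans (cls_congr _ 0 (hψ x) (hS1' _) (hS1' _))
  refine ⟨(injective_iff_map_eq_zero _).2 fun y hy => g₁.injective ?_, ?_⟩
  · obtain ⟨z, hz, hzy⟩ := exists_cls (acC I C) 0 (g₁ y)
    obtain ⟨x, rfl⟩ := hsurj z
    have h0 : (HomologicalComplex.homologyMap ψ 0).hom (g₁ y) = 0 := (key y).symm.trans (by
      show g₀ (hm 0 φ y) = 0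
      rw [show hm 0 φ y = 0 from hy, map_zero])
    rw [← hzy, hmap x hz] at h0
    have hx0 : x = 0 := a0.injective ((hz₀ _ h0).trans (map_zero a0).symm)
    subst hx0
    rw [map_zero, ← hzy]
    exact (cls_eq_zero_iff _ _ _ _).2 ⟨0, (map_zero _).trans (map_zero _).symm⟩
  · ext w
    constructor
    · rintro ⟨y, rfl⟩
      obtain ⟨z, hz, hzy⟩ := exists_cls (acC I C) 0 (g₁ y)
      obtain ⟨x, rfl⟩ := hsurj z
      refine ⟨a0 x, (forall_locDiv_iff I M hfs _).1 ((hd x).1 hz), g₀.injective ?_⟩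
      rw [hunit, key y, ← hzy, hmap x hz]
    · rintro ⟨s, hs, rfl⟩
      have hz := (hd (a0.symm s)).2 (by rw [LinearEquiv.apply_symm_apply]; exact (forall_locDiv_iff I M hfs s).2 hs)
      refine ⟨g₁.symm (cls (acC I C) 0 _ hz), g₀.injective ?_⟩
      rw [hunit, key, LinearEquiv.apply_symm_apply, hmap _ hz]
      exact cls_congr _ 0 (congrArg z₀ (a0.apply_symm_apply s)) _ _

end Groth.Agent.H4DR.RG
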