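import Groth.Agent.H4DR.RG.Vanish
import Groth.Agent.H4DR.RHom.Cech
import Groth.Agent.H4LC.CdAdd
import Groth.Agent.H4LC.ChangeRings
import Mathlib.Algebra.Homology.DerivedCategory.Fractions
import Mathlib.Algebra.Homology.DerivedCategory.ShortExact
import Mathlib.RingTheory.Regular.RegularSequence

/-!
# Complexes on which `Γ_I` computes `RΓ_I`
-/

set_option autoImplicit false
set_option linter.style.haveILetI false
set_option linter.unusedVariables false

universe u

open CategoryTheory CategoryTheory.Limits Pretriangulated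
open Groth.Agent.H16Derived
open Groth.Agent.H4DR.PCoh

attribute [local instance] HasDerivedCategory.standard

namespace Groth.Agent.H4DR.RG

variable {A : Type u} [CommRing A]

lemma torsionSub_antitone {K K' : Ideal A} (h : K ≤ K') (M : Type u) [AddCommGroup M] [Module A M] :
    DRing.torsionSub K' M ≤ DRing.torsionSub K M := fun _ ⟨n, hn⟩ =>
  ⟨n, fun a ha => hn a (Ideal.pow_right_mono h n ha)⟩

lemma torsionSub_bot (M : Type u) [AddCommGroup M] [Module A M] : DRing.torsionSub (⊥ : Ideal A) M = ⊤ :=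
  eq_top_iff.2 fun _ _ => ⟨1, fun a ha => by
    rw [pow_one, Ideal.mem_bot] at ha
    rw [ha, zero_smul]⟩

/-- Each step of the filtration of `Γ` along the list has quotient divisible by its element. -/
def Good (M : Type u) [AddCommGroup M] [Module A M] : List A → Prop
  | [] => True
  | f :: fs => (∀ x ∈ DRing.torsionSub (Ideal.ofList fs) M, ∃ y ∈ DRing.torsionSub (Ideal.ofList fs) M,
      f • y - x ∈ DRing.torsionSub (Ideal.ofList (f :: fs)) M) ∧ Good M fs

theorem good_of_injective [IsNoetherianRing A] (M : Type u) [AddCommGroup M] [Module A M]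
    [Module.Injective A M] : ∀ fs : List A, Good M fs
  | [] => trivial
  | f :: fs => by
    refine ⟨fun x hx => ?_, good_of_injective M fs⟩
    haveI := H4LC.injective_torsionSub (Ideal.ofList fs) M ‹_›
    obtain ⟨y, hy⟩ := H4LC.exists_sub_smul_mem_torsionSub f (⟨x, hx⟩ : DRing.torsionSub (Ideal.ofList fs) M)
    refine ⟨y.1, y.2, ?_⟩
    rw [Ideal.ofList_cons, H4LC.torsionSub_sup]
    exact ⟨(f • y - ⟨x, hx⟩ : DRing.torsionSub (Ideal.ofList fs) M).2, hy⟩

lemma mem_ofList {f : A} {fs : List A} (h : f ∈ fs) : f ∈ Ideal.ofList fs := Ideal.subset_span h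

lemma exists_ofList_eq {I : Ideal A} (hI : I.FG) : ∃ fs : List A, Ideal.ofList fs = I := by
  obtain ⟨s, rfl⟩ := hI
  exact ⟨s.toList, congrArg Ideal.span (Set.ext fun x => Finset.mem_toList)⟩

/-- The inclusion of torsion functors. -/
def incΓ {K K' : Ideal A} (h : K ≤ K') : DRing.gammaI K' ⟶ DRing.gammaI K where
  app M := ModuleCat.ofHom (Submodule.inclusion (torsionSub_antitone h M))
  naturality _ _ _ := rfl

variable {K K' : Ideal A}

/-- `Γ_{K'}` inside `Γ_K`. -/
abbrev subΓ (_h : K ≤ K') (M : ModuleCat.{u} A) : Submodule A (DRing.torsionSub K M) :=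
  (DRing.torsionSub K' M).comap (DRing.torsionSub K M).subtype

/-- The quotient `Γ_K / Γ_{K'}`. -/
noncomputable def quotΓ (h : K ≤ K') : ModuleCat.{u} A ⥤ ModuleCat.{u} A where
  obj M := ModuleCat.of A (DRing.torsionSub K M ⧸ subΓ h M)
  map {M N} f := ModuleCat.ofHom (Submodule.mapQ (subΓ h M) (subΓ h N) ((DRing.gammaI K).map f).hom
    fun _ hm => DRing.map_mem_torsionSub K' f.hom hm)
  map_id M := ModuleCat.hom_ext (Submodule.linearMap_qext _ (LinearMap.ext fun _ => rfl))
  map_comp f g := ModuleCat.hom_ext (Submodule.linearMap_qext _ (LinearMap.ext fun _ => rfl))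

instance (h : K ≤ K') : (quotΓ h).Additive where
  map_add := ModuleCat.hom_ext (Submodule.linearMap_qext _ (LinearMap.ext fun _ => rfl))

/-- The quotient map. -/
noncomputable def projΓ (h : K ≤ K') : DRing.gammaI K ⟶ quotΓ h where
  app M := ModuleCat.ofHom (Submodule.mkQ (subΓ h M))
  naturality _ _ _ := rfl

/-- `Γ_{K'} P ⟶ Γ_K P`. -/
noncomputable abbrev incC (h : K ≤ K') (P : DRing.Cx A) : (ΓC K').obj P ⟶ (ΓC K).obj P :=
  (NatTrans.mapHomologicalComplex (incΓ h) (ComplexShape.up ℤ)).app P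

lemma incC_ιC (h : K ≤ K') (P : DRing.Cx A) : incC h P ≫ ιC K P = ιC K' P := by
  ext i : 1
  exact ModuleCat.hom_ext (LinearMap.ext fun _ => rfl)

/-- The quotient complex. -/
noncomputable abbrev quotC (h : K ≤ K') (P : DRing.Cx A) : DRing.Cx A :=
  ((quotΓ h).mapHomologicalComplex (ComplexShape.up ℤ)).obj P

/-- The short exact sequence of the filtration step. -/
noncomputable def sesΓ (h : K ≤ K') (P : DRing.Cx A) : ShortComplex (DRing.Cx A) :=
  ShortComplex.mk (incC h P) ((NatTrans.mapHomologicalComplex (projΓ h) (ComplexShape.up ℤ)).app P) (by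
    ext i : 1
    exact ModuleCat.hom_ext (LinearMap.ext fun x => (Submodule.Quotient.mk_eq_zero _).2 x.2))

lemma sesΓ_shortExact (h : K ≤ K') (P : DRing.Cx A) : (sesΓ h P).ShortExact :=
  HomologicalComplex.shortExact_of_degreewise_shortExact _ fun i =>
    { exact := (ShortComplex.ShortExact.moduleCat_exact_iff_function_exact _).2 fun x => by
        refine (Submodule.Quotient.mk_eq_zero _).trans ⟨fun hx => ⟨⟨_, hx⟩, Subtype.ext rfl⟩, ?_⟩
        rintro ⟨y, rfl⟩
        exact y.2
      mono_f := (ModuleCat.mono_iff_injective _).2 (Submodule.inclusion_injective (torsionSub_antitone h (P.X i)))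
      epi_g := (ModuleCat.epi_iff_surjective _).2 (Submodule.mkQ_surjective _) }

lemma mul_pow_mem_sup {f : A} {K : Ideal A} {n m : ℕ} {M : Type u} [AddCommGroup M] [Module A M] {x : M}
    (hn : f ^ n • x = 0) (hm : ∀ a ∈ K ^ m, a • x = 0) : x ∈ DRing.torsionSub (Ideal.span {f} ⊔ K) M :=
  ⟨n + m, fun a ha => by
    obtain ⟨b, hb, c, hc, rfl⟩ := Submodule.mem_sup.1 (Ideal.sup_pow_add_le_pow_sup_pow ha)
    rw [Ideal.span_singleton_pow, Ideal.mem_span_singleton'] at hb
    obtain ⟨r, rfl⟩ := hb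
    rw [add_smul, mul_smul, hn, smul_zero, hm c hc, add_zero]⟩

lemma ofList_le_cons (f : A) (fs : List A) : Ideal.ofList fs ≤ Ideal.ofList (f :: fs) := by
  rw [Ideal.ofList_cons]
  exact le_sup_right

theorem bijective_smul_quotC (f : A) (fs : List A) (P : DRing.Cx A) (hP : ∀ i, Good (P.X i) (f :: fs)) (i : ℤ) :
    Function.Bijective (fun x : (quotC (ofList_le_cons f fs) P).X i => f • x) := by
  refine ⟨(injective_iff_map_eq_zero (LinearMap.lsmul A _ f)).2 fun c hc => ?_, fun c => ?_⟩
  · obtain ⟨x, rfl⟩ := Submodule.Quotient.mk_surjective _ c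
    refine (Submodule.Quotient.mk_eq_zero _).2 ?_
    obtain ⟨n, hn⟩ : (f • x.1) ∈ DRing.torsionSub (Ideal.ofList (f :: fs)) (P.X i) :=
      (Submodule.Quotient.mk_eq_zero (subΓ (ofList_le_cons f fs) (P.X i))).1 hc
    obtain ⟨m, hm⟩ := x.2
    show x.1 ∈ DRing.torsionSub (Ideal.ofList (f :: fs)) (P.X i)
    rw [Ideal.ofList_cons]
    refine mul_pow_mem_sup (n := n + 1) ?_ hm
    rw [pow_succ, mul_smul]
    exact hn _ (Ideal.pow_mem_pow (mem_ofList List.mem_cons_self) n)
  · obtain ⟨x, rfl⟩ := Submodule.Quotient.mk_surjective _ c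
    obtain ⟨y, hy, hy'⟩ := (hP i).1 x.1 x.2
    exact ⟨Submodule.Quotient.mk ⟨y, hy⟩, (Submodule.Quotient.eq _).2 hy'⟩

lemma eq_zero_of_pow_smul {f : A} {M : Type u} [AddCommGroup M] [Module A M]
    (hM : Function.Injective (fun x : M => f • x)) : ∀ (m : ℕ) (y : M), f ^ m • y = 0 → y = 0
  | 0, y, h => by simpa using h
  | m + 1, y, h => hM ((eq_zero_of_pow_smul hM m (f • y) (by rwa [smul_smul, ← pow_succ])).trans (smul_zero f).symm)

/-- A complex with `f`-power torsion cohomology becomes acyclic after inverting `f`. -/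
lemma isZero_locC (f : A) (C : DRing.Cx A) (hC : ∀ i, ∀ x : C.homology i, ∃ N : ℕ, f ^ N • x = 0) :
    IsZero (DRing.toD (RHom.locC f C)) := by
  refine isZero_of_subsingleton_HD _ fun i => ?_
  let η₀ := ((DerivedCategory.homologyFunctorFactors (ModuleCat.{u} A) i).app (RHom.locC f C)).toLinearEquiv
  suffices h : ∀ z : (RHom.locC f C).homology i, z = 0 from
    subsingleton_of_forall_eq 0 fun x => η₀.injective ((h _).trans (h _).symm)
  intro z
  obtain ⟨c, rfl⟩ := (ModuleCat.epi_iff_surjective ((RHom.locC f C).homologyπ i)).1 inferInstance z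
  let l : ∀ j, C.X j →ₗ[A] LocalizedModule (Submonoid.powers f) (C.X j) := fun j =>
    LocalizedModule.mkLinearMap (Submonoid.powers f) (C.X j)
  obtain ⟨⟨v, ⟨_, a, rfl⟩⟩, hv⟩ := IsLocalizedModule.surj (Submonoid.powers f) (l i)
    (((RHom.locC f C).iCycles i).hom c)
  replace hv : f ^ a • ((RHom.locC f C).iCycles i).hom c = l i v := hv
  have hd : ∀ j j' (y : C.X j), ((RHom.locC f C).d j j').hom (l j y) = l j' ((C.d j j').hom y) := fun j j' y =>
    congr($((DerCA.locUnit (Submonoid.powers f)).naturality (C.d j j')).hom y).symm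
  have h0 : l (i + 1) ((C.d i (i + 1)).hom v) = 0 := by
    have hz0 : ((RHom.locC f C).d i (i + 1)).hom (((RHom.locC f C).iCycles i).hom c) = 0 :=
      congr($((RHom.locC f C).iCycles_d i (i + 1)).hom c)
    exact (hd i (i + 1) v).symm.trans ((congrArg _ hv.symm).trans ((map_smul _ _ _).trans
      ((congrArg (fun y : (RHom.locC f C).X (i + 1) => f ^ a • y) hz0).trans (smul_zero _))))
  obtain ⟨⟨_, b, rfl⟩, hb⟩ := (IsLocalizedModule.eq_zero_iff (Submonoid.powers f) (l (i + 1))).1 h0
  replace hb : f ^ b • (C.d i (i + 1)).hom v = 0 := hb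
  let t : ModuleCat.of A A ⟶ C.X i := ModuleCat.ofHom (LinearMap.toSpanSingleton A (C.X i) (f ^ b • v))
  have ht : t ≫ C.d i (i + 1) = 0 := ModuleCat.hom_ext (LinearMap.ext_ring (by simp [t, hb]))
  obtain ⟨z, hz⟩ : ∃ z : C.cycles i, (C.iCycles i).hom z = f ^ b • v :=
    ⟨(C.liftCycles t (i + 1) (by simp) ht).hom (1 : A), by
      rw [← ConcreteCategory.comp_apply, C.liftCycles_i]
      exact LinearMap.toSpanSingleton_apply_one A (C.X i) _⟩
  obtain ⟨N, hN⟩ := hC i ((C.homologyπ i).hom z)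
  have hzc : (HomologicalComplex.cyclesMap (RHom.locη f C) i).hom z = f ^ (b + a) • c := by
    refine (ModuleCat.mono_iff_injective ((RHom.locC f C).iCycles i)).1 inferInstance ?_
    refine (congr($(HomologicalComplex.cyclesMap_i (RHom.locη f C) i).hom z)).trans ?_
    show l i ((C.iCycles i).hom z) = _
    rw [hz]
    refine ((map_smul (l i) _ _).trans (congrArg (f ^ b • ·) hv.symm)).trans ?_
    refine (smul_smul _ _ _).trans ?_
    rw [← pow_add]
    exact (map_smul _ _ _).symm
  have h1 : f ^ (N + (b + a)) • ((RHom.locC f C).homologyπ i).hom c = 0 := by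
    have hn : (HomologicalComplex.homologyMap (RHom.locη f C) i).hom ((C.homologyπ i).hom z) =
        ((RHom.locC f C).homologyπ i).hom ((HomologicalComplex.cyclesMap (RHom.locη f C) i).hom z) :=
      congr($(HomologicalComplex.homologyπ_naturality (RHom.locη f C) i).hom z)
    rw [pow_add, mul_smul, ← map_smul, ← hzc, ← hn, ← map_smul, hN, map_zero]
  have hbij : Function.Bijective (fun x : (RHom.locC f C).homology i => f • x) := by
    have h2 := bijective_smul_HD_of_terms (RHom.locC f C) f (RHom.smul_bijective_locC f C) i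
    let η := ((DerivedCategory.homologyFunctorFactors (ModuleCat.{u} A) i).app (RHom.locC f C)).toLinearEquiv
    refine ⟨fun p q hpq => η.symm.injective (h2.1 ?_), fun p => ?_⟩
    · show f • η.symm p = f • η.symm q
      exact (map_smul η.symm f p).symm.trans ((congrArg η.symm hpq).trans (map_smul η.symm f q))
    · obtain ⟨q, hq⟩ := h2.2 (η.symm p)
      exact ⟨η q, η.symm.injective ((map_smul η.symm f (η q)).trans
        ((congrArg (fun t => f • t) (η.symm_apply_apply q)).trans hq))⟩
  exact eq_zero_of_pow_smul hbij.1 _ _ h1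

/-- Objects with `f`-power torsion cohomology are left orthogonal to complexes with `f` bijective. -/
theorem hom_eq_zero_of_torsion {f : A} {T : Dual.D A} (X : DRing.Cx A)
    (hX : ∀ i, Function.Bijective (fun x : X.X i => f • x))
    (hT : ∀ i, ∀ x : Dual.HD A T i, ∃ N : ℕ, f ^ N • x = 0) (y : T ⟶ DRing.toD X) : y = 0 := by
  let e := DerivedCategory.Q.objObjPreimageIso T
  refine (cancel_epi e.hom).1 ?_
  rw [comp_zero]
  obtain ⟨T', s, hs, g, hg⟩ := DerivedCategory.right_fac (e.hom ≫ y)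
  obtain ⟨g', rfl⟩ := RHom.exists_extend hX g
  have hz : IsZero (DRing.toD (RHom.locC f T')) := isZero_locC f T' fun i x => by
    let η := ((DerivedCategory.homologyFunctorFactors (ModuleCat.{u} A) i).app T').toLinearEquiv
    let ε := hEquiv i (asIso (DerivedCategory.Q.map s) ≪≫ e)
    obtain ⟨N, hN⟩ := hT i (ε (η.symm x))
    exact ⟨N, η.symm.injective (ε.injective
      (((congrArg ε (map_smul η.symm _ x)).trans (map_smul ε _ _)).trans
        (hN.trans ((congrArg ε (map_zero η.symm)).trans (map_zero ε)).symm)))⟩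
  rw [hg, Functor.map_comp, hz.eq_of_src (DerivedCategory.Q.map g') 0, comp_zero, comp_zero]

theorem bijective_postcomp_mor₁ {T : Triangle (Dual.D A)} (hT : T ∈ distTriang (Dual.D A)) (X : Dual.D A)
    (h0 : ∀ y : X ⟶ T.obj₃, y = 0) (h1 : ∀ y : X ⟶ T.obj₃⟦(-1 : ℤ)⟧, y = 0) :
    Function.Bijective (fun y : X ⟶ T.obj₁ => y ≫ T.mor₁) := by
  refine ⟨fun a b hab => ?_, fun x => ?_⟩
  · obtain ⟨z, hz⟩ := Triangle.coyoneda_exact₂ T.invRotate (inv_rot_of_distTriang _ hT) (a - b) (by
      show (a - b) ≫ T.mor₁ = 0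
      rw [Preadditive.sub_comp, sub_eq_zero]
      exact hab)
    exact sub_eq_zero.1 (hz.trans ((congrArg (· ≫ _) (h1 z)).trans zero_comp))
  · obtain ⟨z, hz⟩ := Triangle.coyoneda_exact₂ T hT x (h0 _)
    exact ⟨z, hz.symm⟩

theorem bijective_postcomp_ιC : ∀ (fs : List A) (P : DRing.Cx A), (∀ i, Good (P.X i) fs) → ∀ (T : Dual.D A),
    (∀ f ∈ fs, ∀ i, ∀ x : Dual.HD A T i, ∃ N : ℕ, f ^ N • x = 0) →
    Function.Bijective (fun y : T ⟶ DRing.toD ((ΓC (Ideal.ofList fs)).obj P) =>
      y ≫ DerivedCategory.Q.map (ιC (Ideal.ofList fs) P)) := by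
  intro fs
  induction fs with
  | nil =>
    intro P _ T _
    haveI : ∀ i, IsIso ((ιC (Ideal.ofList ([] : List A)) P).f i) := fun i => by
      rw [ConcreteCategory.isIso_iff_bijective]
      refine ⟨fun a b h => Subtype.ext h, fun z => ⟨⟨z, ?_⟩, rfl⟩⟩
      rw [Ideal.ofList_nil, torsionSub_bot]
      trivial
    haveI : IsIso (ιC (Ideal.ofList ([] : List A)) P) := HomologicalComplex.Hom.isIso_of_components _
    exact ⟨fun a b h => (cancel_mono (DerivedCategory.Q.map (ιC (Ideal.ofList ([] : List A)) P))).1 h,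
      fun y => ⟨y ≫ inv (DerivedCategory.Q.map (ιC (Ideal.ofList ([] : List A)) P)), by simp⟩⟩
  | cons f fs ih =>
    intro P hP T hT
    have hb := bijective_postcomp_mor₁
      (DerivedCategory.triangleOfSES_distinguished (sesΓ_shortExact (ofList_le_cons f fs) P)) T
      (fun y => hom_eq_zero_of_torsion _ (bijective_smul_quotC f fs P hP) (hT f List.mem_cons_self) y)
      (fun y => (cancel_mono ((DerivedCategory.Q.commShiftIso (-1 : ℤ)).inv.app
          (quotC (ofList_le_cons f fs) P))).1 ((hom_eq_zero_of_torsion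
            ((quotC (ofList_le_cons f fs) P)⟦(-1 : ℤ)⟧) (fun i => bijective_smul_quotC f fs P hP (i + -1))
            (hT f List.mem_cons_self) _).trans zero_comp.symm))
    refine Eq.mp (congrArg Function.Bijective (funext fun y => ?_))
      ((ih P (fun i => (hP i).2) T (fun g hg => hT g (List.mem_cons_of_mem _ hg))).comp hb)
    show (y ≫ DerivedCategory.Q.map (incC (ofList_le_cons f fs) P)) ≫ _ = _
    rw [Category.assoc, ← Functor.map_comp, incC_ιC]

/-- The cohomology is `I`-power torsion. -/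
abbrev IsTors (I : Ideal A) (L : Dual.D A) : Prop := ∀ i : ℤ, LocCoh.IsPowerTorsion I (Dual.HD A L i)

lemma isTors_of_iso {I : Ideal A} {L L' : Dual.D A} (e : L ≅ L') (h : IsTors I L) : IsTors I L' := fun i x => by
  obtain ⟨n, hn⟩ := h i ((hEquiv i e).symm x)
  exact ⟨n, fun a ha => (hEquiv i e).symm.injective (by rw [map_smul, hn a ha, map_zero])⟩

lemma isTors_ΓC (I : Ideal A) (P : DRing.Cx A) : IsTors I (DRing.toD ((ΓC I).obj P)) := fun i x => by
  let η := ((DerivedCategory.homologyFunctorFactors (ModuleCat.{u} A) i).app ((ΓC I).obj P)).toLinearEquiv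
  obtain ⟨c, hc⟩ := (ModuleCat.epi_iff_surjective (((ΓC I).obj P).homologyπ i)).1 inferInstance (η x)
  obtain ⟨n, hn⟩ := ((((ΓC I).obj P).iCycles i).hom c : DRing.torsionSub I (P.X i)).2
  refine ⟨n, fun a ha => η.injective ?_⟩
  refine ((map_smul η a x).trans ((congrArg (fun t => a • t) hc.symm).trans
    ((map_smul (((ΓC I).obj P).homologyπ i).hom a c).symm.trans ?_)))
  rw [map_zero]
  have : a • c = 0 := (ModuleCat.mono_iff_injective (((ΓC I).obj P).iCycles i)).1 inferInstance
    ((map_smul _ _ _).trans ((Subtype.ext (hn a ha)).trans (map_zero _).symm))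
  exact (congrArg _ this).trans (map_zero _)

variable {I : Ideal A}

theorem bijective_postcomp_ιC' {fs : List A} (hfs : Ideal.ofList fs = I) (P : DRing.Cx A)
    (hP : ∀ i, Good (P.X i) fs) {T : Dual.D A} (hT : IsTors I T) :
    Function.Bijective (fun y : T ⟶ DRing.toD ((ΓC I).obj P) => y ≫ DerivedCategory.Q.map (ιC I P)) := by
  subst hfs
  exact bijective_postcomp_ιC fs P hP T fun f hf i x => by
    obtain ⟨N, hN⟩ := hT i x
    exact ⟨N, hN _ (Ideal.pow_mem_pow (mem_ofList hf) N)⟩

/-- Quasi-isomorphisms between good complexes stay quasi-isomorphisms after `Γ_I`. -/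
theorem isIso_Q_map_ΓC {fs : List A} (hfs : Ideal.ofList fs = I) {P P' : DRing.Cx A}
    (hP : ∀ i, Good (P.X i) fs) (hP' : ∀ i, Good (P'.X i) fs) (φ : P ⟶ P') [IsIso (DerivedCategory.Q.map φ)] :
    IsIso (DerivedCategory.Q.map ((ΓC I).map φ)) := by
  have hn : DerivedCategory.Q.map ((ΓC I).map φ) ≫ DerivedCategory.Q.map (ιC I P') =
      DerivedCategory.Q.map (ιC I P) ≫ DerivedCategory.Q.map φ := by
    rw [← Functor.map_comp, ← Functor.map_comp]
    exact congrArg DerivedCategory.Q.map (by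
      ext i : 1
      exact ModuleCat.hom_ext (LinearMap.ext fun _ => rfl))
  have hb : ∀ T : Dual.D A, IsTors I T →
      Function.Bijective (fun y : T ⟶ DRing.toD ((ΓC I).obj P) => y ≫ DerivedCategory.Q.map ((ΓC I).map φ)) := by
    intro T hT
    refine (Function.Bijective.of_comp_iff' (bijective_postcomp_ιC' hfs P' hP' hT) _).1 ?_
    refine Eq.mp (congrArg Function.Bijective (funext fun y => ?_))
      ((show Function.Bijective (fun z : T ⟶ DRing.toD P => z ≫ DerivedCategory.Q.map φ) from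
        ⟨fun a b h => (cancel_mono (DerivedCategory.Q.map φ)).1 h,
          fun z => ⟨z ≫ inv (DerivedCategory.Q.map φ), by simp⟩⟩).comp (bijective_postcomp_ιC' hfs P hP hT))
    show (y ≫ _) ≫ _ = (y ≫ _) ≫ _
    rw [Category.assoc, ← hn, Category.assoc]
  obtain ⟨β, hβ⟩ := (hb _ (isTors_ΓC I P')).2 (𝟙 _)
  exact ⟨β, (hb _ (isTors_ΓC I P)).1 (by
    show (DerivedCategory.Q.map ((ΓC I).map φ) ≫ β) ≫ _ = 𝟙 _ ≫ _
    rw [Category.assoc, Category.id_comp]
    exact (congrArg (_ ≫ ·) hβ).trans (Category.comp_id _)), hβ⟩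

/-- A K-injective model by injectives. -/
theorem exists_model (K : Dual.D A) : ∃ (J : DRing.Cx A) (_ : CochainComplex.IsKInjective J),
    (∀ i, Module.Injective A (J.X i)) ∧ Nonempty (DRing.toD J ≅ K) := by
  obtain ⟨N, j, hN⟩ := KInjRes.exists_resolution_functor (A := ModuleCat.{u} A)
  haveI := (hN (DerivedCategory.Q.objPreimage K)).2.1
  exact ⟨_, (hN (DerivedCategory.Q.objPreimage K)).2.2.1,
    fun i => (Module.injective_iff_injective_object A _).2 ((hN (DerivedCategory.Q.objPreimage K)).2.2.2 i),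
    ⟨(asIso (DerivedCategory.Q.map (j.app _))).symm ≪≫ DerivedCategory.Q.objObjPreimageIso K⟩⟩

variable [IsNoetherianRing A] [DRing.HasRgammaI I]

/-- `RΓ_I` is computed by good complexes. -/
theorem exists_rgamma_good {fs : List A} (hfs : Ideal.ofList fs = I) (P : DRing.Cx A)
    (hP : ∀ i, Good (P.X i) fs) :
    ∃ e : (DRing.RgammaI I).obj (DRing.toD P) ≅ DRing.toD ((ΓC I).obj P),
      e.hom ≫ DerivedCategory.Q.map (ιC I P) = (DRing.RgammaIε I).app (DRing.toD P) := by
  obtain ⟨N, j, hN⟩ := KInjRes.exists_resolution_functor (A := ModuleCat.{u} A)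
  haveI := (hN P).2.1
  haveI : CochainComplex.IsKInjective (N.obj P) := (hN P).2.2.1
  haveI : IsIso (DerivedCategory.Q.map ((ΓC I).map (j.app P))) := isIso_Q_map_ΓC hfs hP
    (fun i => @good_of_injective A _ _ _ _ _
      ((Module.injective_iff_injective_object A _).2 ((hN P).2.2.2 i)) fs) (j.app P)
  refine ⟨(DRing.RgammaI I).mapIso (asIso (DerivedCategory.Q.map (j.app P))) ≪≫ rgObj I (N.obj P) ≪≫
    (asIso (DerivedCategory.Q.map ((ΓC I).map (j.app P)))).symm, (cancel_mono (DerivedCategory.Q.map (j.app P))).1 ?_⟩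
  have hn := (DRing.RgammaIε I).naturality (DerivedCategory.Q.map (j.app P))
  rw [rgObj_ε] at hn
  refine Eq.trans ?_ hn
  have h1 : DerivedCategory.Q.map (ιC I P) ≫ DerivedCategory.Q.map (j.app P) =
      DerivedCategory.Q.map ((ΓC I).map (j.app P)) ≫ DerivedCategory.Q.map (ιC I (N.obj P)) := by
    rw [← Functor.map_comp, ← Functor.map_comp]
    exact congrArg DerivedCategory.Q.map (by
      ext i : 1
      exact ModuleCat.hom_ext (LinearMap.ext fun _ => rfl))
  simp only [Iso.trans_hom, Functor.mapIso_hom, asIso_hom, Iso.symm_hom, asIso_inv, Category.assoc, h1,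
    IsIso.inv_hom_id_assoc]

omit [IsNoetherianRing A] in
theorem isTors_rgamma (K : Dual.D A) : IsTors I ((DRing.RgammaI I).obj K) := by
  obtain ⟨J, hJ, -, ⟨e⟩⟩ := exists_model K
  exact isTors_of_iso ((rgObj I J).symm ≪≫ (DRing.RgammaI I).mapIso e) (isTors_ΓC I J)

theorem bijective_postcomp_ε {T : Dual.D A} (hT : IsTors I T) (K : Dual.D A) :
    Function.Bijective (fun y : T ⟶ (DRing.RgammaI I).obj K => y ≫ (DRing.RgammaIε I).app K) := by
  obtain ⟨fs, hfs⟩ := exists_ofList_eq (IsNoetherian.noetherian I)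
  obtain ⟨J, hJ, hinj, ⟨e⟩⟩ := exists_model K
  have hb := bijective_postcomp_ιC' hfs J (fun i => @good_of_injective A _ _ _ _ _ (hinj i) fs) hT
  have hε : (DRing.RgammaIε I).app K =
      ((DRing.RgammaI I).mapIso e.symm ≪≫ rgObj I J).hom ≫ DerivedCategory.Q.map (ιC I J) ≫ e.hom := by
    have hn := (DRing.RgammaIε I).naturality e.inv
    rw [Functor.id_map, rgObj_ε] at hn
    rw [Iso.trans_hom, Functor.mapIso_hom, Iso.symm_hom, Category.assoc, ← Category.assoc (rgObj I J).hom,
      ← Category.assoc ((DRing.RgammaI I).map e.inv), hn, Category.assoc, Iso.inv_hom_id]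
    exact (Category.comp_id _).symm
  refine Eq.mp (congrArg Function.Bijective (funext fun y => ?_))
    ((e.homToEquiv.bijective.comp hb).comp ((DRing.RgammaI I).mapIso e.symm ≪≫ rgObj I J).homToEquiv.bijective)
  show (((y ≫ _) ≫ _) ≫ e.hom) = y ≫ _
  rw [hε, Category.assoc, Category.assoc]

end Groth.Agent.H4DR.RG
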