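import Groth.Agent.H4DR.RHom.TensFree
import Groth.Agent.H16Derived.KInjRes.Products

/-!
# Countable products of complexes of modules are products in `D(A)`
-/

set_option autoImplicit false
set_option linter.style.haveILetI false
set_option linter.unusedVariables false

universe u

open CategoryTheory CategoryTheory.Limits CochainComplex
open Groth.Agent.H16Derived
open Groth.Agent.H4DR.RHom (cls exists_cls cls_eq_zero_iff homologyMap_cls)

attribute [local instance] HasDerivedCategory.standard

namespace Groth.Agent.H4DR.RG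

variable {A : Type u} [CommRing A] (S : ℕ → DRing.Cx A)

/-- `∏ S n`. -/
noncomputable def piFam : DRing.Cx A where
  X n := ModuleCat.of A (∀ k, (S k).X n)
  d i j := ModuleCat.ofHom (LinearMap.pi fun k => ((S k).d i j).hom ∘ₗ LinearMap.proj k)
  shape i j h := ModuleCat.hom_ext (LinearMap.ext fun x => funext fun k => by
    show ((S k).d i j).hom (x k) = 0
    rw [(S k).shape i j h]
    rfl)
  d_comp_d' i j l _ _ := ModuleCat.hom_ext (LinearMap.ext fun x => funext fun k =>
    congrArg (fun t => t.hom (x k)) ((S k).d_comp_d i j l))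

/-- The projection. -/
noncomputable def piπ (k : ℕ) : piFam S ⟶ S k where
  f _ := ModuleCat.ofHom (LinearMap.proj k)
  comm' _ _ _ := rfl

variable {S}

/-- The map into the product. -/
noncomputable def piL {D : DRing.Cx A} (φ : ∀ k, D ⟶ S k) : D ⟶ piFam S where
  f n := ModuleCat.ofHom (LinearMap.pi fun k => ((φ k).f n).hom)
  comm' i j _ := ModuleCat.hom_ext (LinearMap.ext fun x => funext fun k =>
    congrArg (fun t => t.hom x) ((φ k).comm i j))

lemma piL_piπ {D : DRing.Cx A} (φ : ∀ k, D ⟶ S k) (k : ℕ) : piL φ ≫ piπ S k = φ k := by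
  ext n : 1
  rfl

lemma piFam_hom_ext {D : DRing.Cx A} {a b : D ⟶ piFam S} (h : ∀ k, a ≫ piπ S k = b ≫ piπ S k) : a = b := by
  ext n : 1
  refine ModuleCat.hom_ext (LinearMap.ext fun x => funext fun k => ?_)
  exact congrArg (fun t : D ⟶ S k => (t.f n).hom x) (h k)

variable (S)

/-- The product fan. -/
noncomputable abbrev piFan : Fan S := Fan.mk (piFam S) (piπ S)

/-- It is a limit. -/
noncomputable def isLimit_piFan : IsLimit (piFan S) :=
  Fan.IsLimit.mk _ (fun s => piL s.proj) (fun s k => piL_piπ _ k)
    (fun s m hm => piFam_hom_ext fun k => (hm k).trans (piL_piπ _ k).symm)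

/-- `H(∏ S) ⟶ ∏ H(S)`. -/
noncomputable def piFamH (i : ℤ) : (piFam S).homology i →ₗ[A] (∀ k, (S k).homology i) :=
  LinearMap.pi fun k => (HomologicalComplex.homologyMap (piπ S k) i).hom

lemma bijective_piFamH (i : ℤ) : Function.Bijective (piFamH S i) := by
  refine ⟨(injective_iff_map_eq_zero _).2 fun x hx => ?_, fun y => ?_⟩
  · obtain ⟨z, hz, rfl⟩ := exists_cls (piFam S) i x
    have hb : ∀ k, ∃ b, ((S k).d (i - 1) i).hom b = z k := fun k =>
      (cls_eq_zero_iff (S k) i _ (congrFun hz k)).1
        ((homologyMap_cls (piπ S k) i z hz (congrFun hz k)).symm.trans (congrFun hx k))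
    choose b hb using hb
    exact (cls_eq_zero_iff _ i z hz).2 ⟨b, funext hb⟩
  · choose z hz hzy using fun k => exists_cls (S k) i (y k)
    exact ⟨cls (piFam S) i z (funext hz), funext fun k =>
      (homologyMap_cls (piπ S k) i z (funext hz) (hz k)).trans (hzy k)⟩

variable {S} in
lemma quasiIso_piMap {S' : ℕ → DRing.Cx A} (j : ∀ k, S k ⟶ S' k) (hj : ∀ k, QuasiIso (j k)) :
    QuasiIso (piL fun k => piπ S k ≫ j k) := by
  rw [quasiIso_iff]
  intro i
  rw [quasiIsoAt_iff_isIso_homologyMap, ConcreteCategory.isIso_iff_bijective]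
  refine (Function.Bijective.of_comp_iff' (bijective_piFamH S' i) _).1 ?_
  have hb : Function.Bijective (Pi.map fun k => ((HomologicalComplex.homologyMap (j k) i).hom :
      (S k).homology i → (S' k).homology i)) :=
    Function.Bijective.piMap fun k => (ConcreteCategory.isIso_iff_bijective _).1 (by
      haveI := hj k
      infer_instance)
  refine Eq.mp (congrArg Function.Bijective (funext fun x => funext fun k => ?_))
    (hb.comp (bijective_piFamH S i))
  show (HomologicalComplex.homologyMap (piπ S k) i ≫ HomologicalComplex.homologyMap (j k) i).hom x =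
    (HomologicalComplex.homologyMap (piL fun k => piπ S k ≫ j k) i ≫ HomologicalComplex.homologyMap (piπ S' k) i).hom x
  rw [← HomologicalComplex.homologyMap_comp, ← HomologicalComplex.homologyMap_comp, piL_piπ]

/-- `Q(∏ S) = ∏ Q(S)`. -/
theorem isLimit_Q_piFan : Nonempty (IsLimit (Fan.mk (DRing.toD (piFam S))
    (fun k => DerivedCategory.Q.map (piπ S k)) : Fan fun k => DRing.toD (S k))) := by
  obtain ⟨N, j, hN⟩ := KInjRes.exists_resolution_functor (A := ModuleCat.{u} A)
  let S' : ℕ → DRing.Cx A := fun k => N.obj (S k)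
  let φ : piFam S ⟶ piFam S' := piL fun k => piπ S k ≫ j.app (S k)
  haveI : ∀ k, CochainComplex.IsKInjective (S' k) := fun k => (hN (S k)).2.2.1
  haveI : ∀ k, IsIso (DerivedCategory.Q.map (j.app (S k))) := fun k => by
    rw [DerivedCategory.isIso_Q_map_iff_quasiIso]
    exact (hN (S k)).2.1
  haveI : IsIso (DerivedCategory.Q.map φ) := by
    rw [DerivedCategory.isIso_Q_map_iff_quasiIso]
    exact quasiIso_piMap _ fun k => (hN (S k)).2.1
  haveI : CochainComplex.IsKInjective (piFam S') :=
    KInjRes.isKInjective_of_fan _ (isLimit_piFan S') inferInstance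
  have hbij : ∀ X : Dual.D A, Function.Bijective
      (fun (g : X ⟶ DRing.toD (piFam S')) (k : ℕ) => g ≫ DerivedCategory.Q.map (piπ S' k)) := fun X => by
    let e := DerivedCategory.Q.objObjPreimageIso X
    refine ⟨fun a b hab => ?_, fun y => ?_⟩
    · obtain ⟨g, hg⟩ := KInjRes.exists_Q_map_eq (e.hom ≫ a)
      obtain ⟨g', hg'⟩ := KInjRes.exists_Q_map_eq (e.hom ≫ b)
      obtain ⟨H⟩ := KInjRes.nonempty_homotopy_zero_of_fan _ (isLimit_piFan S') (g - g') fun k => by
        show Nonempty (Homotopy ((g - g') ≫ piπ S' k) 0)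
        rw [Preadditive.sub_comp]
        refine KInjRes.nonempty_homotopy_of_Q_map_eq ?_
        rw [Functor.map_comp, Functor.map_comp, hg, hg', Category.assoc, Category.assoc]
        exact congrArg (e.hom ≫ ·) (congrFun hab k)
      rw [← cancel_epi e.hom, ← hg, ← hg', ← sub_eq_zero, ← Functor.map_sub,
        DerivedCategory.Q_map_eq_of_homotopy (h := H), Functor.map_zero]
    · choose g hg using fun k => KInjRes.exists_Q_map_eq (e.hom ≫ y k)
      refine ⟨e.inv ≫ DerivedCategory.Q.map (piL g), funext fun k => ?_⟩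
      show (e.inv ≫ DerivedCategory.Q.map (piL g)) ≫ DerivedCategory.Q.map (piπ S' k) = y k
      rw [Category.assoc, ← Functor.map_comp, piL_piπ, hg, Iso.inv_hom_id_assoc]
  have hb : ∀ X : Dual.D A, Function.Bijective
      (fun (g : X ⟶ DRing.toD (piFam S)) (k : ℕ) => g ≫ DerivedCategory.Q.map (piπ S k)) := fun X => by
    have hd : Function.Bijective (fun (y : ∀ k, X ⟶ DRing.toD (S k)) (k : ℕ) =>
        y k ≫ DerivedCategory.Q.map (j.app (S k))) :=
      Function.Bijective.piMap fun k => (asIso (DerivedCategory.Q.map (j.app (S k)))).homToEquiv.bijective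
    refine (Function.Bijective.of_comp_iff' hd _).1 ?_
    refine Eq.mp (congrArg Function.Bijective (funext fun g => funext fun k => ?_))
      ((hbij X).comp (asIso (DerivedCategory.Q.map φ)).homToEquiv.bijective)
    show (g ≫ DerivedCategory.Q.map φ) ≫ DerivedCategory.Q.map (piπ S' k) =
      (g ≫ DerivedCategory.Q.map (piπ S k)) ≫ DerivedCategory.Q.map (j.app (S k))
    rw [Category.assoc, Category.assoc, ← Functor.map_comp, ← Functor.map_comp, piL_piπ]
  exact ⟨Fan.IsLimit.mk _ (fun s => ((hb s.pt).2 s.proj).choose)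
    (fun s k => congrFun ((hb s.pt).2 s.proj).choose_spec k)
    (fun s m hm => (hb s.pt).1 (funext fun k => (hm k).trans (congrFun ((hb s.pt).2 s.proj).choose_spec k).symm))⟩

end Groth.Agent.H4DR.RG
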