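import Groth.Agent.H4DR.RG.CechModel
import Groth.Agent.H4DR.RG.Products
import Groth.Agent.H4DR.DComplete.Adic.Termwise
import Groth.Prelude.Def_DCoh2
import Groth.Agent.H4DR.TorAmp.Derived

/-!
# The derived completion of `RΓ_J M` as a derived limit
-/

set_option autoImplicit false
set_option linter.style.haveILetI false
set_option linter.unusedVariables false

universe u

open CategoryTheory CategoryTheory.Limits CochainComplex Pretriangulated
open Groth.Agent.H4DR.DComplete (acC ηC acF)
open Groth.Agent.H4Cech (mapX fC sC C_ext)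

attribute [local instance] HasDerivedCategory.standard

namespace Groth.Agent.H4DR.RG

variable {A : Type u} [CommRing A] [IsNoetherianRing A]

omit [IsNoetherianRing A] in
lemma mapX_zero {M N : ModuleCat.{u} A} (fs : List A) (p : ℤ) (x : (DerCA.extCech M fs).X p) :
    mapX (0 : M ⟶ N) fs p x = 0 := by
  have h := mapX_add (0 : M ⟶ N) 0 fs p x
  rw [add_zero] at h
  exact left_eq_add.1 h

omit [IsNoetherianRing A] in
lemma mapX_sum {ι : Type*} (s : Finset ι) {M N : ModuleCat.{u} A} (g : ι → (M ⟶ N)) (fs : List A) (p : ℤ)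
    (x : (DerCA.extCech M fs).X p) : mapX (∑ i ∈ s, g i) fs p x = ∑ i ∈ s, mapX (g i) fs p x := by
  classical
  induction s using Finset.induction_on with
  | empty => rw [Finset.sum_empty, Finset.sum_empty, mapX_zero]
  | insert a s ha ih => rw [Finset.sum_insert ha, Finset.sum_insert ha, mapX_add, ih]

theorem arTor_extCech (M : ModuleCat.{u} A) [Module.Finite A M] : ∀ (fs : List A) (p : ℤ),
    DComplete.ARTor (A := A) ((DerCA.extCech M fs).X p) := by
  intro fs
  induction fs with
  | nil =>
    intro p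
    by_cases hp : p = 0
    · subst hp
      exact ((DComplete.arTor_tensor M A).of_equiv (TensorProduct.rid A M)).of_equiv
        (HomologicalComplex.singleObjXSelf (ComplexShape.up ℤ) 0 M).toLinearEquiv.symm
    · haveI := subsingleton_single M p hp
      exact DComplete.ARTor.of_subsingleton
  | cons f fs ih =>
    intro p
    exact ((ih p).prod ((ih (p - 1)).localization (Submonoid.powers f))).of_equiv
      (H4Cech.kl (DerCA.locCxUnit (Submonoid.powers f) (DerCA.extCech M fs)) (p - 1) p (by omega)).symm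

omit [IsNoetherianRing A] in
lemma isZero_extCech_of_gt (M : ModuleCat.{u} A) : ∀ (fs : List A) (p : ℤ), (fs.length : ℤ) < p →
    Subsingleton ((DerCA.extCech M fs).X p) := by
  intro fs
  induction fs with
  | nil => exact fun p hp => subsingleton_single M p (by simp at hp; omega)
  | cons f fs ih =>
    intro p hp
    simp only [List.length_cons, Nat.cast_add, Nat.cast_one] at hp
    haveI := ih p (by omega)
    have hs : Subsingleton (LocalizedModule (Submonoid.powers f) ((DerCA.extCech M fs).X (p - 1))) :=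
      subsingleton_of_forall_eq 0 fun z => by
        induction z using LocalizedModule.induction_on with
        | h x s => rw [@Subsingleton.elim _ (ih (p - 1) (by omega)) x 0, LocalizedModule.zero_mk]
    haveI : Subsingleton (((DerCA.locCx (Submonoid.powers f)).obj (DerCA.extCech M fs)).X (p - 1)) := hs
    exact (H4Cech.kl (DerCA.locCxUnit (Submonoid.powers f) (DerCA.extCech M fs)) (p - 1) p (by omega)).toEquiv.subsingleton

/-- The image of the Čech complex of `𝔞M` is `𝔞` times that of `M`. -/
theorem range_mapX_subtype (M : ModuleCat.{u} A) (a : Ideal A) (fs : List A) (p : ℤ) :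
    LinearMap.range (mapX (ModuleCat.ofHom (a • (⊤ : Submodule A M)).subtype :
      ModuleCat.of A (a • (⊤ : Submodule A M) : Submodule A M) ⟶ M) fs p) = a • ⊤ := by
  classical
  let ι : ModuleCat.of A (a • (⊤ : Submodule A M) : Submodule A M) ⟶ M := ModuleCat.ofHom (a • (⊤ : Submodule A M)).subtype
  refine le_antisymm ?_ (Submodule.smul_le.2 fun r hr x _ => ?_)
  · rintro _ ⟨z, rfl⟩
    obtain ⟨s, hs⟩ := IsNoetherian.noetherian a
    have hmem : ∀ r : {r // r ∈ s}, r.1 ∈ a := fun r => hs ▸ Submodule.subset_span r.2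
    let ψ : ModuleCat.of A ({r // r ∈ s} → M) ⟶ ModuleCat.of A (a • (⊤ : Submodule A M) : Submodule A M) :=
      ModuleCat.ofHom ((∑ r : {r // r ∈ s}, r.1 • LinearMap.proj r).codRestrict _ fun u => by
        rw [LinearMap.sum_apply]
        exact Submodule.sum_mem _ fun r _ => Submodule.smul_mem_smul (hmem r) Submodule.mem_top)
    have hψ : Function.Surjective ψ.hom := by
      rintro ⟨x, hx⟩
      suffices h : x ∈ LinearMap.range (∑ r : {r // r ∈ s}, r.1 • (LinearMap.proj r : ({r // r ∈ s} → M) →ₗ[A] M)) by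
        obtain ⟨u, hu⟩ := h
        exact ⟨u, Subtype.ext hu⟩
      refine (Submodule.smul_le.2 ?_ : a • (⊤ : Submodule A M) ≤ _) hx
      intro r hr y _
      rw [← hs] at hr
      induction hr using Submodule.span_induction generalizing y with
      | mem r hr =>
        refine ⟨Pi.single ⟨r, hr⟩ y, ?_⟩
        rw [LinearMap.sum_apply, Finset.sum_eq_single ⟨r, hr⟩]
        · rw [LinearMap.smul_apply, LinearMap.proj_apply, Pi.single_eq_same]
        · intro b _ hb
          rw [LinearMap.smul_apply, LinearMap.proj_apply, Pi.single_eq_of_ne hb, smul_zero]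
        · exact fun h => absurd (Finset.mem_univ _) h
      | zero => rw [zero_smul]; exact zero_mem _
      | add u v _ _ hu hv => rw [add_smul]; exact add_mem (hu y Submodule.mem_top) (hv y Submodule.mem_top)
      | smul c u _ hu => rw [smul_eq_mul, mul_smul]; exact Submodule.smul_mem _ c (hu y Submodule.mem_top)
    obtain ⟨w, rfl⟩ := H4Cech.mapX_surjective ψ hψ fs p z
    have e : ψ ≫ ι = ∑ r : {r // r ∈ s}, (ModuleCat.ofHom (LinearMap.proj r) : _ ⟶ M) ≫ (r.1 • 𝟙 M) := by
      refine ModuleCat.hom_ext (LinearMap.ext fun u => ?_)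
      rw [ModuleCat.hom_sum, LinearMap.sum_apply]
      show (∑ r : {r // r ∈ s}, r.1 • (LinearMap.proj r : ({r // r ∈ s} → M) →ₗ[A] M)) u = _
      rw [LinearMap.sum_apply]
      rfl
    rw [← mapX_comp, e, mapX_sum]
    refine Submodule.sum_mem _ fun r _ => ?_
    rw [mapX_comp, mapX_smul_id]
    exact Submodule.smul_mem_smul (hmem r) Submodule.mem_top
  · refine ⟨mapX (ModuleCat.ofHom ((LinearMap.lsmul A M r).codRestrict _ fun y =>
      Submodule.smul_mem_smul hr Submodule.mem_top)) fs p x, ?_⟩
    rw [← mapX_comp]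
    refine Eq.trans ?_ (mapX_smul_id r fs p x)
    rfl

variable (I : Ideal A) (M : ModuleCat.{u} A) (fs : List A)

/-- `M / I^n M`. -/
noncomputable abbrev Mq (n : ℕ) : ModuleCat.{u} A := ModuleCat.of A (M ⧸ (I ^ n • ⊤ : Submodule A M))

/-- The quotient map. -/
noncomputable abbrev qn (n : ℕ) : M ⟶ Mq I M n := ModuleCat.ofHom (Submodule.mkQ _)

/-- The transition map. -/
noncomputable abbrev tq (n : ℕ) : Mq I M (n + 1) ⟶ Mq I M n :=
  ModuleCat.ofHom (Submodule.mapQ (I ^ (n + 1) • ⊤ : Submodule A M) (I ^ n • ⊤ : Submodule A M) LinearMap.id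
    (Submodule.smul_mono (Ideal.pow_le_pow_right (Nat.le_succ n)) le_rfl))

omit [IsNoetherianRing A] in
lemma qn_tq (n : ℕ) : qn I M (n + 1) ≫ tq I M n = qn I M n :=
  ModuleCat.hom_ext (LinearMap.ext fun _ => rfl)

lemma ker_mapX_qn (n : ℕ) (p : ℤ) : LinearMap.ker (mapX (qn I M n) fs p) = I ^ n • ⊤ := by
  rw [← range_mapX_subtype M (I ^ n) fs p]
  ext y
  refine LinearMap.mem_ker.trans ?_
  refine (H4Cech.mapX_exact (qn I M n) (ModuleCat.ofHom (I ^ n • (⊤ : Submodule A M)).subtype) (fun x => ?_) fs p y).trans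
    (Iff.rfl)
  show (Submodule.mkQ _) x = 0 ↔ x ∈ Set.range Subtype.val
  rw [Subtype.range_coe_subtype]
  exact Submodule.Quotient.mk_eq_zero _

/-- The tower. -/
noncomputable abbrev tow (n : ℕ) : DRing.Cx A := DerCA.extCech (Mq I M n) fs

/-- Evaluation of the termwise completion. -/
noncomputable def evX (n : ℕ) (p : ℤ) :
    AdicCompletion I ((DerCA.extCech M fs).X p) →ₗ[A] (tow I M fs n).X p :=
  (Submodule.liftQ _ (mapX (qn I M n) fs p) (ker_mapX_qn I M fs n p).ge) ∘ₗ
    AdicCompletion.eval I ((DerCA.extCech M fs).X p) n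

/-- The projections of the termwise completion. -/
noncomputable def evC (n : ℕ) : acC I (DerCA.extCech M fs) ⟶ tow I M fs n where
  f p := ModuleCat.ofHom (evX I M fs n p)
  comm' p p' h := ModuleCat.hom_ext (LinearMap.ext fun (x : AdicCompletion I ((DerCA.extCech M fs).X p)) => by
    obtain ⟨a, rfl⟩ := AdicCompletion.mk_surjective I _ x
    exact (H4Cech.mapX_d (qn I M n) fs p p' h (a n)).symm)

lemma ηC_evC (n : ℕ) : ηC I (DerCA.extCech M fs) ≫ evC I M fs n = chMap (qn I M n) fs := by
  ext p : 1
  exact ModuleCat.hom_ext (LinearMap.ext fun _ => rfl)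

lemma evC_tq (n : ℕ) : evC I M fs (n + 1) ≫ chMap (tq I M n) fs = evC I M fs n := by
  ext p : 1
  refine ModuleCat.hom_ext (LinearMap.ext fun (x : AdicCompletion I ((DerCA.extCech M fs).X p)) => ?_)
  obtain ⟨a, rfl⟩ := AdicCompletion.mk_surjective I _ x
  show mapX (tq I M n) fs p (mapX (qn I M (n + 1)) fs p (a (n + 1))) = mapX (qn I M n) fs p (a n)
  rw [← mapX_comp, qn_tq, ← sub_eq_zero, ← map_sub, ← LinearMap.mem_ker, ker_mapX_qn]
  exact DComplete.seq_sub_mem a (Nat.le_succ n)

/-- Into the product. -/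
noncomputable abbrev αC : acC I (DerCA.extCech M fs) ⟶ piFam (tow I M fs) := piL fun n => evC I M fs n

/-- One minus shift. -/
noncomputable abbrev βC : piFam (tow I M fs) ⟶ piFam (tow I M fs) :=
  piL fun n => piπ (tow I M fs) n - piπ (tow I M fs) (n + 1) ≫ chMap (tq I M n) fs

lemma αC_βC : αC I M fs ≫ βC I M fs = 0 := piFam_hom_ext fun n => by
  rw [Category.assoc, piL_piπ, Preadditive.comp_sub, piL_piπ, ← Category.assoc, piL_piπ, evC_tq, sub_self, zero_comp]

/-- The short exact sequence defining the limit. -/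
noncomputable abbrev sesC : ShortComplex (DRing.Cx A) := ShortComplex.mk (αC I M fs) (βC I M fs) (αC_βC I M fs)

lemma sesC_shortExact : (sesC I M fs).ShortExact :=
  HomologicalComplex.shortExact_of_degreewise_shortExact _ fun p =>
    { exact := (ShortComplex.ShortExact.moduleCat_exact_iff_function_exact _).2 fun
        (y : ∀ n, (tow I M fs n).X p) => by
        refine ⟨fun hy => ?_, ?_⟩
        · have hc : ∀ n, mapX (tq I M n) fs p (y (n + 1)) = y n := fun n =>
            (sub_eq_zero.1 (congrFun hy n : y n - mapX (tq I M n) fs p (y (n + 1)) = 0)).symm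
          choose x hx using fun n => H4Cech.mapX_surjective (qn I M n) (Submodule.mkQ_surjective _) fs p (y n)
          refine ⟨AdicCompletion.mk I _ (DComplete.seqOf x fun n => ?_), funext fun n => hx n⟩
          rw [← ker_mapX_qn, LinearMap.mem_ker, map_sub, hx n, ← qn_tq, mapX_comp, hx (n + 1), hc, sub_self]
        · rintro ⟨x, rfl⟩
          exact congrArg (fun t : acC I (DerCA.extCech M fs) ⟶ piFam (tow I M fs) => (t.f p).hom x) (αC_βC I M fs)
      mono_f := (ModuleCat.mono_iff_injective _).2 ((injective_iff_map_eq_zero _).2 fun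
        (x : AdicCompletion I ((DerCA.extCech M fs).X p)) hx => by
        obtain ⟨a, rfl⟩ := AdicCompletion.mk_surjective I _ x
        refine AdicCompletion.ext fun n => (Submodule.Quotient.mk_eq_zero _).2 ?_
        rw [← ker_mapX_qn]
        exact congrFun hx n)
      epi_g := (ModuleCat.epi_iff_surjective _).2 fun (z : ∀ n, (tow I M fs n).X p) => by
        choose r hr using fun n => H4Cech.mapX_surjective (tq I M n)
          (fun v => by
            obtain ⟨v, rfl⟩ := Submodule.Quotient.mk_surjective _ v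
            exact ⟨Submodule.Quotient.mk v, rfl⟩) fs p
        let w : ∀ n, (tow I M fs n).X p := fun n => Nat.rec 0 (fun m wm => r m (wm - z m)) n
        refine ⟨w, funext fun n => ?_⟩
        show w n - mapX (tq I M n) fs p (w (n + 1)) = z n
        rw [show mapX (tq I M n) fs p (w (n + 1)) = w n - z n from hr n _, sub_sub_cancel] }

variable [Module.Finite A M]

theorem isCompletion_cech : DComplete.IsCompletion I (DerivedCategory.Q.map (ηC I (DerCA.extCech M fs))) :=
  DComplete.isCompletion_ηC I (IsNoetherian.noetherian I) (fs.length + 1) 0 _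
    (fun i hi => @ModuleCat.isZero_of_subsingleton _ _ _ (H4Cech.subsingleton_X_of_neg M fs i hi))
    (fun i hi => @ModuleCat.isZero_of_subsingleton _ _ _ (isZero_extCech_of_gt M fs i (by push_cast at hi; omega)))
    (fun i => arTor_extCech M fs i)

variable {J : Ideal A} [DRing.HasRgammaI J] [DRing.HasDerivedCompletion I]
  [∀ K : ℕ → Dual.D A, HasProduct K]

theorem derivedCompletion_rgamma_isRlim {fs : List A} (hfs : Ideal.ofList fs = J) :
    DCoh.IsRlim (fun n => (DRing.RgammaI J).obj ((DerivedCategory.singleFunctor (ModuleCat.{u} A) 0).obj (Mq I M n)))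
      (fun n => (DRing.RgammaI J).map ((DerivedCategory.singleFunctor (ModuleCat.{u} A) 0).map (tq I M n)))
      ((DRing.derivedCompletion I).obj ((DRing.RgammaI J).obj
        ((DerivedCategory.singleFunctor (ModuleCat.{u} A) 0).obj M))).obj ∧
    ∀ i : ℤ, i < 0 → Subsingleton (Dual.HD A ((DRing.derivedCompletion I).obj ((DRing.RgammaI J).obj
        ((DerivedCategory.singleFunctor (ModuleCat.{u} A) 0).obj M))).obj i) := by
  obtain ⟨E, -⟩ := (DComplete.isCompletion_unit (I := I) ((DRing.RgammaI J).obj
    ((DerivedCategory.singleFunctor (ModuleCat.{u} A) 0).obj M))).exists_iso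
    ((isCompletion_cech I M fs).of_iso (cechIso hfs M).symm (Iso.refl _))
  refine ⟨?_, fun i hi => ?_⟩
  · haveI : HasProductsOfShape ℕ (Dual.D A) := ⟨fun F => hasLimit_of_iso Discrete.natIsoFunctor.symm⟩
    let K : ℕ → Dual.D A := fun n =>
      (DRing.RgammaI J).obj ((DerivedCategory.singleFunctor (ModuleCat.{u} A) 0).obj (Mq I M n))
    obtain ⟨hl⟩ := isLimit_Q_piFan (tow I M fs)
    let P : DRing.toD (piFam (tow I M fs)) ≅ ∏ᶜ K :=
      hl.conePointUniqueUpToIso (productIsProduct (fun n => DRing.toD (tow I M fs n))) ≪≫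
        Pi.mapIso (fun n => (cechIso hfs (Mq I M n)).symm)
    have hP : ∀ n, P.hom ≫ Pi.π K n =
        DerivedCategory.Q.map (piπ (tow I M fs) n) ≫ (cechIso hfs (Mq I M n)).inv := fun n => by
      simp only [P, Iso.trans_hom, Category.assoc]
      erw [limMap_π]
      rw [← Category.assoc]
      exact congrArg (· ≫ (cechIso hfs (Mq I M n)).inv)
        (IsLimit.conePointUniqueUpToIso_hom_comp hl (productIsProduct _) ⟨n⟩)
    refine ⟨E.hom ≫ DerivedCategory.Q.map (αC I M fs) ≫ P.hom, P.inv ≫
      DerivedCategory.triangleOfSESδ (sesC_shortExact I M fs) ≫ E.inv⟦(1 : ℤ)⟧',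
      isomorphic_distinguished _ (DerivedCategory.triangleOfSES_distinguished (sesC_shortExact I M fs)) _ ?_⟩
    refine (Triangle.isoMk _ _ E.symm P P ?_ ?_ ?_).symm
    · show DerivedCategory.Q.map (αC I M fs) ≫ P.hom = E.inv ≫ E.hom ≫ _
      rw [Iso.inv_hom_id_assoc]
    · show DerivedCategory.Q.map (βC I M fs) ≫ P.hom =
        P.hom ≫ Pi.lift (fun n => Pi.π K n - Pi.π K (n + 1) ≫ (DRing.RgammaI J).map _)
      refine Pi.hom_ext _ _ fun n => ?_
      have hc : DerivedCategory.Q.map (chMap (tq I M n) fs) ≫ (cechIso hfs (Mq I M n)).inv =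
          (cechIso hfs (Mq I M (n + 1))).inv ≫ (DRing.RgammaI J).map
            ((DerivedCategory.singleFunctor (ModuleCat.{u} A) 0).map (tq I M n)) := by
        rw [Iso.eq_inv_comp, ← Category.assoc, cechIso_naturality, Category.assoc, Iso.hom_inv_id]
        exact Category.comp_id _
      rw [Category.assoc, Category.assoc, hP, Pi.lift_π, Preadditive.comp_sub, ← Category.assoc P.hom, hP, hP,
        ← Category.assoc, ← Functor.map_comp, piL_piπ, Functor.map_sub, Preadditive.sub_comp, Functor.map_comp,
        Category.assoc, Category.assoc, hc]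
    · show DerivedCategory.triangleOfSESδ (sesC_shortExact I M fs) ≫ (CategoryTheory.shiftFunctor (Dual.D A) (1 : ℤ)).map E.inv =
        P.hom ≫ P.inv ≫ _
      rw [Iso.hom_inv_id_assoc]
  · refine @Function.Injective.subsingleton _ _ (PCoh.hEquiv i E) (PCoh.hEquiv i E).injective ?_
    rw [TorAmp.subsingleton_HD_toD_iff]
    refine (HomologicalComplex.exactAt_iff _ _).2 (ShortComplex.exact_of_isZero_X₂ _ ?_)
    exact (acF I).map_isZero (@ModuleCat.isZero_of_subsingleton _ _ _ (H4Cech.subsingleton_X_of_neg M fs i hi))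

end Groth.Agent.H4DR.RG
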