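import Groth.Agent.H4DR.RG.Basic
import Groth.Agent.H4DR.DComplete.Coind
import Groth.Agent.H4DR.Hom.HLinear
import Groth.Agent.H4DR.PCoh.Les

/-!
# `RΓ_I` kills objects on which an element of `I` is invertible
-/

set_option autoImplicit false
set_option linter.style.haveILetI false

universe u

open CategoryTheory CategoryTheory.Limits
open Groth.Agent.H16Derived
open Groth.Agent.H4DR.PCoh

attribute [local instance] HasDerivedCategory.standard

namespace Groth.Agent.H4DR.RG

variable {A : Type u} [CommRing A]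

/-- An element of the torsion complex. -/
lemma smul_pow_eq_zero (I : Ideal A) {f : A} (hf : f ∈ I) (J : DRing.Cx A) (n : ℤ) (z : ((ΓC I).obj J).X n) :
    ∃ N : ℕ, f ^ N • z = 0 := by
  obtain ⟨N, hN⟩ := (z : DRing.torsionSub I (J.X n)).2
  exact ⟨N, Subtype.ext (hN _ (Ideal.pow_mem_pow hf N))⟩

lemma exists_pow_smul_homology (I : Ideal A) {f : A} (hf : f ∈ I) (J : DRing.Cx A) (n : ℤ)
    (x : ((ΓC I).obj J).homology n) : ∃ N : ℕ, f ^ N • x = 0 := by
  obtain ⟨c, rfl⟩ := (ModuleCat.epi_iff_surjective (((ΓC I).obj J).homologyπ n)).1 inferInstance x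
  obtain ⟨N, hN⟩ := smul_pow_eq_zero I hf J n ((((ΓC I).obj J).iCycles n).hom c)
  refine ⟨N, ?_⟩
  rw [← map_smul]
  have : f ^ N • c = 0 := (ModuleCat.mono_iff_injective (((ΓC I).obj J).iCycles n)).1 inferInstance
    ((map_smul _ _ _).trans (hN.trans (map_zero _).symm))
  exact (congrArg _ this).trans (map_zero _)

lemma isZero_of_subsingleton_HD (C : Dual.D A) (h : ∀ i, Subsingleton (Dual.HD A C i)) : IsZero C := by
  haveI : IsIso (0 : C ⟶ C) := by
    rw [DerivedCategory.isIso_iff]
    intro i
    rw [ConcreteCategory.isIso_iff_bijective]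
    haveI := h i
    exact ⟨fun a b _ => Subsingleton.elim a b, fun b => ⟨0, Subsingleton.elim _ _⟩⟩
  rw [IsZero.iff_id_eq_zero]
  exact (cancel_epi (0 : C ⟶ C)).1 (by rw [zero_comp, zero_comp])

/-- Termwise bijectivity gives bijectivity on cohomology. -/
lemma bijective_smul_HD_of_terms (K : DRing.Cx A) (f : A) (hK : ∀ n : ℤ, Function.Bijective (fun x : K.X n => f • x))
    (i : ℤ) : Function.Bijective (fun x : Dual.HD A (DRing.toD K) i => f • x) := by
  haveI : ∀ n, IsIso ((f • 𝟙 K : K ⟶ K).f n) := fun n => by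
    rw [ConcreteCategory.isIso_iff_bijective]
    exact hK n
  haveI : IsIso (f • 𝟙 K : K ⟶ K) := HomologicalComplex.Hom.isIso_of_components _
  refine Eq.mp (congrArg Function.Bijective (funext fun x => ?_))
    (bijective_hm_of_isIso i (DerivedCategory.Q.map (f • 𝟙 K)))
  rw [Functor.map_smul, CategoryTheory.Functor.map_id]
  exact (congrArg (fun t => t.hom x) (Hom.H_map_smul f (𝟙 (DRing.toD K)) i)).trans
    (congrArg (fun t => f • t) (congrArg (fun t : Dual.HD A (DRing.toD K) i →ₗ[A] _ => t x) (hm_id (DRing.toD K) i)))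

variable (I : Ideal A) [DRing.HasRgammaI I]

theorem isZero_rgamma_of_bijective {f : A} (hf : f ∈ I) (C : Dual.D A)
    (hC : ∀ i, Function.Bijective (fun x : Dual.HD A C i => f • x)) :
    IsZero ((DRing.RgammaI I).obj C) := by
  obtain ⟨J, hJ, ⟨e⟩⟩ := KInjRes.exists_kInjective_iso C
  haveI : CochainComplex.IsKInjective J := hJ
  haveI : IsIso (DerivedCategory.Q.map (f • 𝟙 J)) := by
    rw [DerivedCategory.isIso_iff]
    intro i
    rw [ConcreteCategory.isIso_iff_bijective]
    have hb : Function.Bijective (fun x : Dual.HD A (DRing.toD J) i => f • x) := by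
      let ε := hEquiv i e
      refine ⟨fun a b hab => ?_, fun y => ?_⟩
      · refine ε.symm.injective ((hC i).1 ?_)
        show f • ε.symm a = f • ε.symm b
        rw [← map_smul, ← map_smul]
        exact congrArg ε.symm hab
      · obtain ⟨x, hx⟩ := (hC i).2 (ε.symm y)
        exact ⟨ε x, ε.symm.injective (by rw [map_smul, LinearEquiv.symm_apply_apply]; exact hx)⟩
    refine Eq.mp (congrArg Function.Bijective (funext fun x => ?_)) hb
    show f • x = hm i (DerivedCategory.Q.map (f • 𝟙 J)) x
    rw [Functor.map_smul, CategoryTheory.Functor.map_id]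
    exact ((congrArg (fun t => t.hom x) (Hom.H_map_smul f (𝟙 (DRing.toD J)) i)).trans
      (congrArg (fun t => f • t) (congrArg (fun t : Dual.HD A (DRing.toD J) i →ₗ[A] _ => t x) (hm_id (DRing.toD J) i)))).symm
  obtain ⟨g, hg⟩ := DComplete.exists_Q_map_eq (inv (DerivedCategory.Q.map (f • 𝟙 J)))
  have hh : DerivedCategory.Q.map (f • g) = DerivedCategory.Q.map (𝟙 J) := by
    rw [show f • g = (f • 𝟙 J) ≫ g by rw [Linear.smul_comp, Category.id_comp], Functor.map_comp, hg,
      IsIso.hom_inv_id, CategoryTheory.Functor.map_id]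
  have hrg : DerivedCategory.Q.map ((ΓC I).map (f • g)) = 𝟙 _ := by
    rw [← cancel_epi (rgObj I J).hom, ← rgObj_naturality I (f • g), hh, CategoryTheory.Functor.map_id,
      CategoryTheory.Functor.map_id, Category.id_comp, Category.comp_id]
  have hΓ : (ΓC I).map (f • g) = f • (ΓC I).map g := by
    ext n : 1
    exact ModuleCat.hom_ext (LinearMap.ext fun x => Subtype.ext rfl)
  rw [hΓ, Functor.map_smul] at hrg
  refine IsZero.of_iso (isZero_of_subsingleton_HD _ fun i => subsingleton_of_forall_eq 0 fun x => ?_)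
    ((DRing.RgammaI I).mapIso e ≪≫ rgObj I J)
  let η := ((DerivedCategory.homologyFunctorFactors (ModuleCat.{u} A) i).app ((ΓC I).obj J)).toLinearEquiv
  obtain ⟨N, hN⟩ := exists_pow_smul_homology I hf J i (η x)
  have hx : f ^ N • x = 0 := η.injective ((map_smul η _ _).trans (hN.trans (map_zero η).symm))
  let γ := hm i (DerivedCategory.Q.map ((ΓC I).map g))
  have h1 : ∀ y, f • γ y = y := fun y =>
    ((congrArg (fun t => t.hom y) (Hom.H_map_smul f (DerivedCategory.Q.map ((ΓC I).map g)) i)).symm.trans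
      (congrArg (fun t => hm i t y) hrg)).trans (congrArg (fun t : _ →ₗ[A] _ => t y) (hm_id _ i))
  clear hN
  induction N generalizing x with
  | zero => simpa using hx
  | succ N ih =>
    refine ih _ ?_
    have := congrArg γ hx
    rw [map_zero, map_smul, pow_succ, mul_smul, h1] at this
    exact this

end Groth.Agent.H4DR.RG
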