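import Groth.Agent.H4DR.RG.Good
import Groth.Agent.H4DR.RG.Vanish
import Groth.Agent.H4DR.RG.HomColim
import Groth.Agent.H4DR.PCoh.Les

/-!
# `RΓ_I` has finite cohomological amplitude
-/

set_option autoImplicit false
set_option linter.style.haveILetI false
set_option linter.unusedVariables false

universe u

open CategoryTheory CategoryTheory.Limits

attribute [local instance] HasDerivedCategory.standard

namespace Groth.Agent.H4DR.RG

variable {A : Type u} [CommRing A]

theorem subsingleton_homology_ΓC : ∀ (fs : List A) (P : DRing.Cx A), (∀ i, Good (P.X i) fs) → ∀ (c : ℤ),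
    (∀ i, c < i → Subsingleton (P.homology i)) →
    ∀ i, c + fs.length < i → Subsingleton (((ΓC (Ideal.ofList fs)).obj P).homology i) := by
  intro fs
  induction fs with
  | nil =>
    intro P _ c hc i hi
    haveI : ∀ i, IsIso ((ιC (Ideal.ofList ([] : List A)) P).f i) := fun i => by
      rw [ConcreteCategory.isIso_iff_bijective]
      refine ⟨fun a b h => Subtype.ext h, fun z => ⟨⟨z, ?_⟩, rfl⟩⟩
      rw [Ideal.ofList_nil, torsionSub_bot]
      trivial
    haveI : IsIso (ιC (Ideal.ofList ([] : List A)) P) := HomologicalComplex.Hom.isIso_of_components _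
    haveI := hc i (by simpa using hi)
    exact ((asIso (HomologicalComplex.homologyMap (ιC (Ideal.ofList ([] : List A)) P) i)).toLinearEquiv).injective.subsingleton
  | cons f fs ih =>
    intro P hP c hc i hi
    have hlen : ((f :: fs).length : ℤ) = fs.length + 1 := by simp
    have hS := sesΓ_shortExact (ofList_le_cons f fs) P
    have h0 : ∀ j, c + fs.length < j → Subsingleton (((ΓC (Ideal.ofList fs)).obj P).homology j) :=
      ih P (fun i => (hP i).2) c hc
    have hq : ∀ j, c + fs.length < j → Subsingleton ((quotC (ofList_le_cons f fs) P).homology j) := fun j hj => by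
      haveI := h0 j hj
      have hinj : Function.Injective (hS.δ j (j + 1) rfl).hom := (injective_iff_map_eq_zero _).2 fun x hx => by
        obtain ⟨y, rfl⟩ := ((ShortComplex.ShortExact.moduleCat_exact_iff_function_exact _).1
          (hS.homology_exact₃ j (j + 1) rfl) x).1 hx
        rw [show y = 0 from (h0 j hj).elim y 0, map_zero]
      have hb : Function.Bijective (fun x : (quotC (ofList_le_cons f fs) P).homology j => f • x) := by
        have h2 := bijective_smul_HD_of_terms _ f (bijective_smul_quotC f fs P hP) j
        let η := ((DerivedCategory.homologyFunctorFactors (ModuleCat.{u} A) j).app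
          (quotC (ofList_le_cons f fs) P)).toLinearEquiv
        refine ⟨fun p q hpq => η.symm.injective (h2.1 ?_), fun p => ?_⟩
        · show f • η.symm p = f • η.symm q
          exact (map_smul η.symm f p).symm.trans ((congrArg η.symm hpq).trans (map_smul η.symm f q))
        · obtain ⟨q, hq⟩ := h2.2 (η.symm p)
          exact ⟨η q, η.symm.injective ((map_smul η.symm f (η q)).trans
            ((congrArg (fun t => f • t) (η.symm_apply_apply q)).trans hq))⟩
      refine subsingleton_of_forall_eq 0 fun x => ?_
      obtain ⟨N, hN⟩ := exists_pow_smul_homology (Ideal.ofList (f :: fs)) (mem_ofList List.mem_cons_self) P (j + 1)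
        ((hS.δ j (j + 1) rfl).hom x)
      exact eq_zero_of_pow_smul hb.1 N x (hinj ((map_smul _ _ _).trans (hN.trans (map_zero _).symm)))
    refine subsingleton_of_forall_eq 0 fun x => ?_
    obtain ⟨y, rfl⟩ := ((ShortComplex.ShortExact.moduleCat_exact_iff_function_exact _).1
      (hS.homology_exact₁ (i - 1) i (show i - 1 + 1 = i by omega)) x).1 ((h0 i (by omega)).elim _ _)
    rw [show y = 0 from (hq (i - 1) (by omega)).elim y 0, map_zero]; rfl

variable [IsNoetherianRing A]

/-- Cohomology above the amplitude vanishes. -/
theorem exists_subsingleton_HDI (I : Ideal A) : ∃ r : ℕ, ∀ (K : Dual.D A) (c : ℤ),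
    (∀ i, c < i → Subsingleton (Dual.HD A K i)) → ∀ i, c + r < i → Subsingleton (Dual2.HDI A I K i) := by
  obtain ⟨fs, rfl⟩ := exists_ofList_eq (IsNoetherian.noetherian I)
  haveI : DRing.HasRgammaI (Ideal.ofList fs) := hasRgammaI _
  refine ⟨fs.length, fun K c hc i hi => ?_⟩
  obtain ⟨e⟩ := nonempty_equiv_HDI (Ideal.ofList fs) K i
  obtain ⟨J, hJ, hinj, ⟨eJ⟩⟩ := exists_model K
  have hc' : ∀ j, c < j → Subsingleton (J.homology j) := fun j hj => by
    haveI := hc j hj
    exact (((DerivedCategory.homologyFunctorFactors (ModuleCat.{u} A) j).app J).toLinearEquiv.symm.trans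
      (PCoh.hEquiv j eJ)).injective.subsingleton
  haveI := subsingleton_homology_ΓC fs J (fun i => @good_of_injective A _ _ _ _ _ (hinj i) fs) c hc' i hi
  let h1 := (PCoh.hEquiv i ((DRing.RgammaI (Ideal.ofList fs)).mapIso eJ.symm ≪≫ rgObj (Ideal.ofList fs) J)).trans
    ((DerivedCategory.homologyFunctorFactors (ModuleCat.{u} A) i).app ((ΓC _).obj J)).toLinearEquiv
  exact @Function.Injective.subsingleton _ _ _ (e.symm.trans h1).injective this

end Groth.Agent.H4DR.RG
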