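import Groth.Agent.H4DR.RG.Comp
import Groth.Agent.H4DR.DComplete.Triangle
import Groth.Agent.H4DR.DComplete.Universal
import Groth.Agent.H4DR.DComplete.Adic.Orth

/-!
# Greenlees–May duality
-/

set_option autoImplicit false
set_option linter.style.haveILetI false
set_option linter.unusedVariables false

universe u

open CategoryTheory CategoryTheory.Limits Pretriangulated
open Groth.Agent.H4DR.PCoh

attribute [local instance] HasDerivedCategory.standard

namespace Groth.Agent.H4DR.RG

variable {A : Type u} [CommRing A] {I : Ideal A}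

/-- Complete objects do not distinguish `Γ` of a good complex from the complex. -/
theorem bijective_precomp_ιC : ∀ (fs : List A), (∀ f ∈ fs, f ∈ I) → ∀ (P : DRing.Cx A),
    (∀ i, Good (P.X i) fs) → ∀ (E : Dual.D A), DRing.IsDerivedComplete I E →
    Function.Bijective (fun y : DRing.toD P ⟶ E => DerivedCategory.Q.map (ιC (Ideal.ofList fs) P) ≫ y) := by
  intro fs
  induction fs with
  | nil =>
    intro _ P _ E _
    haveI : ∀ i, IsIso ((ιC (Ideal.ofList ([] : List A)) P).f i) := fun i => by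
      rw [ConcreteCategory.isIso_iff_bijective]
      refine ⟨fun a b h => Subtype.ext h, fun z => ⟨⟨z, ?_⟩, rfl⟩⟩
      rw [Ideal.ofList_nil, torsionSub_bot]
      trivial
    haveI : IsIso (ιC (Ideal.ofList ([] : List A)) P) := HomologicalComplex.Hom.isIso_of_components _
    exact ⟨fun a b h => (cancel_epi (DerivedCategory.Q.map (ιC (Ideal.ofList ([] : List A)) P))).1 h,
      fun y => ⟨inv (DerivedCategory.Q.map (ιC (Ideal.ofList ([] : List A)) P)) ≫ y, IsIso.hom_inv_id_assoc _ _⟩⟩
  | cons f fs ih =>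
    intro hI P hP E hE
    have hb := RHom.bijective_precomp_mor₁
      (DerivedCategory.triangleOfSES_distinguished (sesΓ_shortExact (ofList_le_cons f fs) P)) (X := E)
      (fun y => DComplete.hom_eq_zero (hI f List.mem_cons_self) _ (bijective_smul_quotC f fs P hP) hE y)
      (fun y => DComplete.hom_eq_zero (hI f List.mem_cons_self) _ (bijective_smul_quotC f fs P hP)
        (DComplete.isDerivedComplete_shift hE 1) y)
    refine Eq.mp (congrArg Function.Bijective (funext fun y => ?_))
      (hb.comp (ih (fun g hg => hI g (List.mem_cons_of_mem _ hg)) P (fun i => (hP i).2) E hE))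
    show DerivedCategory.Q.map (incC (ofList_le_cons f fs) P) ≫ _ ≫ y = _
    rw [← Category.assoc, ← Functor.map_comp, incC_ιC]

/-- Complete objects receive no maps. -/
def Orth (I : Ideal A) (U : Dual.D A) : Prop :=
  ∀ E : Dual.D A, DRing.IsDerivedComplete I E → ∀ y : U ⟶ E, y = 0

lemma Orth.shift {U : Dual.D A} (h : Orth I U) (n : ℤ) : Orth I (U⟦n⟧) := fun E hE y => by
  let e : (E⟦-n⟧)⟦n⟧ ≅ E := (shiftFunctorCompIsoId (Dual.D A) (-n) n (by omega)).app E
  obtain ⟨a, ha⟩ := (shiftFunctor (Dual.D A) n).map_surjective (y ≫ e.inv)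
  rw [← cancel_mono e.inv, zero_comp, ← ha, h _ (DComplete.isDerivedComplete_shift hE (-n)) a, Functor.map_zero]

lemma Orth.obj₃ {T : Triangle (Dual.D A)} (hT : T ∈ distTriang _) (h₁ : Orth I T.obj₁) (h₂ : Orth I T.obj₂) :
    Orth I T.obj₃ := fun E hE y => by
  obtain ⟨z, rfl⟩ := Triangle.yoneda_exact₃ T hT y (h₂ E hE _)
  rw [h₁.shift 1 E hE z, comp_zero]

/-- Killed by some power in each degree. -/
def Bdd (f : A) (U : Dual.D A) : Prop := ∀ i, ∃ m : ℕ, ∀ x : Dual.HD A U i, f ^ m • x = 0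

lemma bij_of_smul_eq_zero {g : A} {M : Type u} [AddCommGroup M] [Module A M] (h : ∀ x : M, g • x = 0) :
    DComplete.Bij g M := by
  refine ⟨fun a b hab => funext fun k => ?_, fun s => ⟨s, funext fun k => ?_⟩⟩
  · have hk := congrFun hab k
    rw [DComplete.T_apply, DComplete.T_apply, h, h, sub_zero, sub_zero] at hk
    exact hk
  · rw [DComplete.T_apply, h, sub_zero]

lemma isDerivedComplete_of_bdd (fs : List A) (U : Dual.D A) (h : ∀ f ∈ fs, Bdd f U) :
    DRing.IsDerivedComplete (Ideal.ofList fs) U :=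
  (DComplete.isDerivedComplete_iff _ _).2 fun f hf n =>
    (Ideal.span_le.2 fun g hg => by
      obtain ⟨m, hm⟩ := h g hg n
      exact DComplete.Bij.of_pow (bij_of_smul_eq_zero hm) : Ideal.ofList fs ≤ DComplete.bijIdeal (Dual.HD A U n)) hf

lemma isZero_of_orth_of_bdd (fs : List A) (U : Dual.D A) (hO : Orth (Ideal.ofList fs) U)
    (h : ∀ f ∈ fs, Bdd f U) : IsZero U :=
  (IsZero.iff_id_eq_zero _).2 (hO U (isDerivedComplete_of_bdd fs U h) (𝟙 U))

/-- An object with torsion cohomology receiving no maps to complete objects vanishes. -/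
theorem isZero_of_orth (fs : List A) : ∀ (gs : List A) (U : Dual.D A),
    (∀ f ∈ fs, ∀ i, ∀ x : Dual.HD A U i, ∃ N : ℕ, f ^ N • x = 0) → Orth (Ideal.ofList fs) U →
    (∀ g ∈ gs, g ∈ fs) → (∀ f ∈ fs, f ∉ gs → Bdd f U) → IsZero U := by
  intro gs
  induction gs with
  | nil => exact fun U _ hO _ hB => isZero_of_orth_of_bdd fs U hO fun f hf => hB f hf List.not_mem_nil
  | cons g gs ih =>
    intro U hU hO hsub hB
    obtain ⟨V, p, q, hT⟩ := distinguished_cocone_triangle (g • 𝟙 U)
    let Tg : Triangle (Dual.D A) := Triangle.mk (g • 𝟙 U) p q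
    have hsm : ∀ i (x : Dual.HD A U i), hm i (g • 𝟙 U) x = g • x := fun i x => by
      rw [DComplete.hm_smul, hm_id]
      rfl
    have hδ : ∀ i (x : Dual.HD A V i), g • δl Tg i (i + 1) rfl x = (0 : Dual.HD A U (i + 1)) := fun i x =>
      (hsm (i + 1) _).symm.trans ((ex₁ _ hT i (i + 1) rfl _).2 ⟨x, rfl⟩)
    have hlift : ∀ i (a : A) (x : Dual.HD A V i), a • δl Tg i (i + 1) rfl x = (0 : Dual.HD A U (i + 1)) →
        ∃ l : Dual.HD A U i, hm i p l = a • x := fun i a x h =>
      (ex₃ _ hT i (i + 1) rfl (a • x)).1 ((map_smul _ _ _).trans h)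
    have hV : IsZero V := by
      refine ih V (fun f hf i x => ?_) (Orth.obj₃ hT hO hO) (fun f hf => hsub f (List.mem_cons_of_mem _ hf))
        (fun f hf hf' => ?_)
      · obtain ⟨N, hN⟩ := hU f hf (i + 1) (δl Tg i (i + 1) rfl x)
        obtain ⟨l, hl⟩ := hlift i (f ^ N) x hN
        obtain ⟨M, hM⟩ := hU f hf i l
        exact ⟨M + N, by rw [pow_add, mul_smul, ← hl, ← map_smul, hM, map_zero]⟩
      · intro i
        by_cases hfg : f = g
        · subst hfg
          refine ⟨2, fun x => ?_⟩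
          obtain ⟨l, hl⟩ := hlift i f x (hδ i x)
          rw [pow_two, mul_smul, ← hl, ← map_smul, ← hsm]
          exact (ex₂ _ hT i _).2 ⟨l, rfl⟩
        · have hnot : f ∉ g :: gs := by simp [hfg, hf']
          obtain ⟨m, hm₀⟩ := hB f hf hnot i
          obtain ⟨m', hm'⟩ := hB f hf hnot (i + 1)
          refine ⟨m + m', fun x => ?_⟩
          obtain ⟨l, hl⟩ := hlift i (f ^ m') x (hm' _)
          rw [pow_add, mul_smul, ← hl, ← map_smul, hm₀, map_zero]
    haveI : IsIso (g • 𝟙 U) := (Triangle.isZero₃_iff_isIso₁ _ hT).1 hV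
    refine isZero_of_subsingleton_HD U fun i => subsingleton_of_forall_eq 0 fun x => ?_
    have hb : Function.Injective (fun x : Dual.HD A U i => g • x) := fun a b hab => by
      refine (bijective_hm_of_isIso i (g • 𝟙 U)).1 ?_
      rw [hsm, hsm]
      exact hab
    obtain ⟨N, hN⟩ := hU g (hsub g List.mem_cons_self) i x
    exact eq_zero_of_pow_smul hb N x hN

variable (I) [IsNoetherianRing A] [DRing.HasRgammaI I]

theorem bijective_precomp_ε (K : Dual.D A) {E : Dual.D A} (hE : DRing.IsDerivedComplete I E) :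
    Function.Bijective (fun y : K ⟶ E => (DRing.RgammaIε I).app K ≫ y) := by
  obtain ⟨fs, hfs⟩ := exists_ofList_eq (IsNoetherian.noetherian I)
  obtain ⟨J, hJ, hinj, ⟨e⟩⟩ := exists_model K
  have hb := bijective_precomp_ιC (I := I) fs (fun f hf => hfs ▸ mem_ofList hf) J
    (fun i => @good_of_injective A _ _ _ _ _ (hinj i) fs) E hE
  rw [hfs] at hb
  have hε : (DRing.RgammaIε I).app K =
      ((DRing.RgammaI I).mapIso e.symm ≪≫ rgObj I J).hom ≫ DerivedCategory.Q.map (ιC I J) ≫ e.hom := by
    have hn := (DRing.RgammaIε I).naturality e.inv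
    rw [Functor.id_map, rgObj_ε] at hn
    rw [Iso.trans_hom, Functor.mapIso_hom, Iso.symm_hom, Category.assoc, ← Category.assoc (rgObj I J).hom,
      ← Category.assoc ((DRing.RgammaI I).map e.inv), hn, Category.assoc, Iso.inv_hom_id]
    exact (Category.comp_id _).symm
  refine Eq.mp (congrArg Function.Bijective (funext fun y => ?_))
    ((((DRing.RgammaI I).mapIso e.symm ≪≫ rgObj I J).symm.homFromEquiv.bijective).comp
      (hb.comp e.symm.homFromEquiv.bijective))
  show _ ≫ _ ≫ e.hom ≫ y = _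
  rw [hε, Category.assoc, Category.assoc]
  rfl

/-- Torsion objects see no maps into objects orthogonal to complete ones. -/
theorem hom_eq_zero_of_orth {T C : Dual.D A} (hT : IsTors I T) (hC : Orth I C) (y : T ⟶ C) : y = 0 := by
  obtain ⟨fs, hfs⟩ := exists_ofList_eq (IsNoetherian.noetherian I)
  have hz : IsZero ((DRing.RgammaI I).obj C) := by
    refine isZero_of_orth fs fs _ (fun f hf i x => ?_) (fun E hE z => ?_) (fun _ h => h) (fun f hf hf' => absurd hf hf')
    · obtain ⟨n, hn⟩ := isTors_rgamma C i x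
      exact ⟨n, hn _ (Ideal.pow_mem_pow (hfs ▸ mem_ofList hf) n)⟩
    · obtain ⟨w, rfl⟩ := (bijective_precomp_ε I C (hfs ▸ hE)).2 z
      show (DRing.RgammaIε I).app C ≫ w = 0
      rw [hC E (hfs ▸ hE) w, comp_zero]
  obtain ⟨w, rfl⟩ := (bijective_postcomp_ε hT C).2 y
  show w ≫ _ = 0
  rw [hz.eq_of_tgt w 0, zero_comp]

theorem isIso_rgamma_map_completion {K X : Dual.D A} {η : K ⟶ X} (hη : DComplete.IsCompletion I η) :
    IsIso ((DRing.RgammaI I).map η) := by
  obtain ⟨C, p, q, hT⟩ := distinguished_cocone_triangle η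
  have hC : Orth I C := fun E hE y => by
    have h0 : p ≫ y = 0 := (hη.bij E hE).1 (by
      show η ≫ p ≫ y = η ≫ 0
      rw [comp_zero, ← Category.assoc]
      exact (congrArg (· ≫ y) (comp_distTriang_mor_zero₁₂ _ hT)).trans zero_comp)
    obtain ⟨z, hz⟩ := Triangle.yoneda_exact₃ _ hT y h0
    obtain ⟨z', rfl⟩ := (hη.bij_shift hE).2 z
    refine hz.trans ?_
    show q ≫ η⟦(1 : ℤ)⟧' ≫ z' = 0
    rw [← Category.assoc]
    exact (congrArg (· ≫ z') (comp_distTriang_mor_zero₃₁ _ hT)).trans zero_comp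
  have hb : ∀ T : Dual.D A, IsTors I T →
      Function.Bijective (fun y : T ⟶ (DRing.RgammaI I).obj K => y ≫ (DRing.RgammaI I).map η) := by
    intro T hTt
    refine (Function.Bijective.of_comp_iff' (bijective_postcomp_ε hTt X) _).1 ?_
    refine Eq.mp (congrArg Function.Bijective (funext fun y => ?_))
      ((bijective_postcomp_mor₁ hT T (fun y => hom_eq_zero_of_orth I hTt hC y)
        (fun y => hom_eq_zero_of_orth I hTt (hC.shift (-1)) y)).comp (bijective_postcomp_ε hTt K))
    show (y ≫ _) ≫ η = (y ≫ _) ≫ _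
    rw [Category.assoc, Category.assoc, (DRing.RgammaIε I).naturality η]
    rfl
  obtain ⟨β, hβ⟩ := (hb _ (isTors_rgamma X)).2 (𝟙 _)
  exact ⟨β, (hb _ (isTors_rgamma K)).1 (by
    show ((DRing.RgammaI I).map η ≫ β) ≫ _ = 𝟙 _ ≫ _
    rw [Category.assoc, Category.id_comp]
    exact (congrArg (_ ≫ ·) hβ).trans (Category.comp_id _)), hβ⟩

theorem nonempty_greenlees_may [DRing.HasDerivedCompletion I] (K : Dual.D A) :
    Nonempty ((DRing.RgammaI I).obj ((DRing.derivedCompletion I).obj K).obj ≅ (DRing.RgammaI I).obj K) ∧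
      Nonempty ((DRing.derivedCompletion I).obj ((DRing.RgammaI I).obj K) ≅ (DRing.derivedCompletion I).obj K) := by
  have hK := DComplete.isCompletion_unit (I := I) K
  haveI := isIso_rgamma_map_completion I hK
  refine ⟨⟨(asIso ((DRing.RgammaI I).map (DRing.toDerivedCompletion I K))).symm⟩, ?_⟩
  have h2 : DComplete.IsCompletion I ((DRing.RgammaIε I).app K ≫ DRing.toDerivedCompletion I K) :=
    ⟨hK.complete, fun E hE => by
      refine Eq.mp (congrArg Function.Bijective (funext fun y => ?_))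
        ((bijective_precomp_ε I K hE).comp (hK.bij E hE))
      exact (Category.assoc _ _ _).symm⟩
  obtain ⟨e, -⟩ := (DComplete.isCompletion_unit (I := I) ((DRing.RgammaI I).obj K)).exists_iso h2
  exact ⟨(DRing.IsDerivedComplete I).isoMk e⟩

end Groth.Agent.H4DR.RG
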