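import Groth.Agent.H4DR.RG.Good

/-!
# Composition of torsion functors and the adjunction
-/

set_option autoImplicit false
set_option linter.style.haveILetI false
set_option linter.unusedVariables false

universe u

open CategoryTheory CategoryTheory.Limits

attribute [local instance] HasDerivedCategory.standard

namespace Groth.Agent.H4DR.RG

variable {A : Type u} [CommRing A] (I J : Ideal A)

lemma mem_torsionSub_sup_comm (M : Type u) [AddCommGroup M] [Module A M] (x : M) :
    x ∈ DRing.torsionSub (I ⊔ J) M ↔ ∃ h : x ∈ DRing.torsionSub I M,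
      (⟨x, h⟩ : DRing.torsionSub I M) ∈ DRing.torsionSub J (DRing.torsionSub I M) := by
  rw [sup_comm, H4LC.torsionSub_sup]

/-- `Γ_J Γ_I M ≅ Γ_{I+J} M`. -/
def ΓΓequiv (M : Type u) [AddCommGroup M] [Module A M] :
    DRing.torsionSub J (DRing.torsionSub I M) ≃ₗ[A] DRing.torsionSub (I ⊔ J) M where
  toFun x := ⟨x.1.1, (mem_torsionSub_sup_comm I J M _).2 ⟨x.1.2, x.2⟩⟩
  map_add' _ _ := rfl
  map_smul' _ _ := rfl
  invFun x := ⟨⟨x.1, ((mem_torsionSub_sup_comm I J M _).1 x.2).choose⟩,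
    ((mem_torsionSub_sup_comm I J M _).1 x.2).choose_spec⟩
  left_inv _ := rfl
  right_inv _ := rfl

/-- `Γ_J ∘ Γ_I = Γ_{I+J}` on complexes. -/
noncomputable def ΓΓiso (P : DRing.Cx A) : (ΓC J).obj ((ΓC I).obj P) ≅ (ΓC (I ⊔ J)).obj P :=
  HomologicalComplex.Hom.isoOfComponents (fun i => (ΓΓequiv I J (P.X i)).toModuleIso)
    (fun i j _ => ModuleCat.hom_ext (LinearMap.ext fun _ => rfl))

variable [IsNoetherianRing A] [DRing.HasRgammaI I] [DRing.HasRgammaI J] [DRing.HasRgammaI (I ⊔ J)]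

theorem nonempty_rgamma_comp (K : Dual.D A) :
    Nonempty ((DRing.RgammaI J).obj ((DRing.RgammaI I).obj K) ≅ (DRing.RgammaI (I ⊔ J)).obj K) := by
  obtain ⟨fs, hfs⟩ := exists_ofList_eq (IsNoetherian.noetherian J)
  obtain ⟨J0, hJ0, hinj, ⟨e⟩⟩ := exists_model K
  obtain ⟨e1, -⟩ := exists_rgamma_good hfs ((ΓC I).obj J0)
    (fun i => @good_of_injective A _ _ _ _ _ (H4LC.injective_torsionSub I _ (hinj i)) fs)
  exact ⟨(DRing.RgammaI J).mapIso ((DRing.RgammaI I).mapIso e.symm ≪≫ rgObj I J0) ≪≫ e1 ≪≫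
    DerivedCategory.Q.mapIso (ΓΓiso I J J0) ≪≫ (rgObj (I ⊔ J) J0).symm ≪≫ (DRing.RgammaI (I ⊔ J)).mapIso e⟩

theorem isIso_ε (K : Dual.D A) (hK : IsTors I K) : IsIso ((DRing.RgammaIε I).app K) := by
  obtain ⟨s, hs⟩ := (bijective_postcomp_ε hK K).2 (𝟙 K)
  exact ⟨s, (bijective_postcomp_ε (isTors_rgamma K) K).1 (by
    show ((DRing.RgammaIε I).app K ≫ s) ≫ _ = 𝟙 _ ≫ _
    rw [Category.assoc, Category.id_comp]
    exact (congrArg (_ ≫ ·) hs).trans (Category.comp_id _)), hs⟩

/-- `RΓ_I` is right adjoint to the inclusion of torsion objects. -/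
theorem exists_adjunction : ∃ h : ∀ K : Dual.D A, (fun L : Dual.D A => IsTors I L) ((DRing.RgammaI I).obj K),
    Nonempty (ObjectProperty.ι (fun L : Dual.D A => IsTors I L) ⊣
      ObjectProperty.lift (fun L : Dual.D A => IsTors I L) (DRing.RgammaI I) h) :=
  ⟨fun K => isTors_rgamma K, ⟨Adjunction.mkOfHomEquiv
    { homEquiv := fun X Y => (Equiv.ofBijective
        (fun g : X.obj ⟶ (DRing.RgammaI I).obj Y => g ≫ (DRing.RgammaIε I).app Y)
        (bijective_postcomp_ε X.2 Y)).symm.trans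
          { toFun := fun g => ObjectProperty.homMk g
            invFun := fun g => g.hom
            left_inv := fun _ => rfl
            right_inv := fun _ => rfl }
      homEquiv_naturality_left_symm := fun {X' X Y} f g => by
        show (f.hom ≫ g.hom) ≫ (DRing.RgammaIε I).app Y = f.hom ≫ g.hom ≫ (DRing.RgammaIε I).app Y
        exact Category.assoc _ _ _
      homEquiv_naturality_right := fun {X Y Y'} f g => by
        refine (ObjectProperty.ι _).map_injective ?_
        refine (bijective_postcomp_ε X.2 Y').1 ?_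
        let E := fun Z => Equiv.ofBijective
          (fun g : X.obj ⟶ (DRing.RgammaI I).obj Z => g ≫ (DRing.RgammaIε I).app Z) (bijective_postcomp_ε X.2 Z)
        show (E Y').symm (f ≫ g) ≫ _ = ((E Y).symm f ≫ (DRing.RgammaI I).map g) ≫ _
        rw [Category.assoc, (DRing.RgammaIε I).naturality g, Functor.id_map, ← Category.assoc]
        exact ((E Y').apply_symm_apply (f ≫ g)).trans (congrArg (· ≫ g) ((E Y).apply_symm_apply f)).symm }⟩⟩

end Groth.Agent.H4DR.RG
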