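import Groth.Prelude.Def_DRing3
import Groth.Agent.H16Derived.RDerived
import Groth.Agent.H16Derived.KInjRes.Main
import Groth.Agent.H16Derived.KInjRes.Products
import Mathlib.Algebra.Category.ModuleCat.EnoughInjectives
import Mathlib.Algebra.Category.ModuleCat.AB
import Mathlib.Algebra.Homology.DerivedCategory.KInjective

/-!
# `RΓ_I` on K-injective complexes
-/

set_option autoImplicit false
set_option linter.style.haveILetI false

universe u

open CategoryTheory CategoryTheory.Limits
open Groth.Agent.H16Derived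

attribute [local instance] HasDerivedCategory.standard

namespace Groth.Agent.H4DR.RG

variable {A : Type u} [CommRing A] (I : Ideal A)

/-- `Γ_I` termwise. -/
noncomputable abbrev ΓC : DRing.Cx A ⥤ DRing.Cx A := (DRing.gammaI I).mapHomologicalComplex (ComplexShape.up ℤ)

/-- `Γ_I J ⟶ J`. -/
noncomputable def ιC (J : DRing.Cx A) : (ΓC I).obj J ⟶ J :=
  ((NatTrans.mapHomologicalComplex (DRing.gammaIι I) (ComplexShape.up ℤ)).app J) ≫
    (Functor.mapHomologicalComplexIdIso (ModuleCat.{u} A) (ComplexShape.up ℤ)).hom.app J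

lemma ιC_f (J : DRing.Cx A) (n : ℤ) (x : DRing.torsionSub I (J.X n)) : ((ιC I J).f n).hom x = x.1 := rfl

lemma hb_kinj (J : DRing.Cx A) [CochainComplex.IsKInjective J]
    (Y : HomotopyCategory (ModuleCat.{u} A) (ComplexShape.up ℤ)) : Function.Bijective
      (DerivedCategory.Qh.map : (Y ⟶ (HomotopyCategory.quotient (ModuleCat.{u} A) (ComplexShape.up ℤ)).obj J) → _) :=
  CochainComplex.IsKInjective.Qh_map_bijective Y J

theorem hasPointwise : (DRing.gammaIKh I).HasPointwiseRightDerivedFunctor
    (HomotopyCategory.quasiIso (ModuleCat.{u} A) (ComplexShape.up ℤ)) := by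
  obtain ⟨N, j, hN⟩ := KInjRes.exists_resolution_functor (A := ModuleCat.{u} A)
  refine RDerived.hasPointwiseRightDerivedFunctor_of_resolutions DerivedCategory.Qh _ _ fun X => ?_
  obtain ⟨K, rfl⟩ := HomotopyCategory.quotient_obj_surjective X
  haveI := (hN K).2.2.1
  exact ⟨_, (HomotopyCategory.quotient _ _).map (j.app K),
    (HomotopyCategory.quotient_map_mem_quasiIso_iff _).2 (hN K).2.1, hb_kinj (N.obj K)⟩

theorem hasRgammaI : DRing.HasRgammaI I :=
  haveI := hasPointwise I
  inferInstance

variable [DRing.HasRgammaI I]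

/-- The unit. -/
noncomputable abbrev unit : DRing.gammaIKh I ⟶ DerivedCategory.Qh ⋙ DRing.RgammaI I :=
  (DRing.gammaIKh I).totalRightDerivedUnit DerivedCategory.Qh
    (HomotopyCategory.quasiIso (ModuleCat.{u} A) (ComplexShape.up ℤ))

instance isIso_unit (J : DRing.Cx A) [CochainComplex.IsKInjective J] :
    IsIso ((unit I).app ((HomotopyCategory.quotient (ModuleCat.{u} A) (ComplexShape.up ℤ)).obj J)) :=
  haveI := hasPointwise I
  RDerived.isIso_unit_app_of_bijective DerivedCategory.Qh
    (HomotopyCategory.quasiIso (ModuleCat.{u} A) (ComplexShape.up ℤ)) (DRing.gammaIKh I) _ _ _ (hb_kinj J)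

/-- `Γ_I` in `K(A)` and on complexes. -/
noncomputable def facIso (J : DRing.Cx A) :
    (DRing.gammaIKh I).obj ((HomotopyCategory.quotient (ModuleCat.{u} A) (ComplexShape.up ℤ)).obj J) ≅
      DRing.toD ((ΓC I).obj J) :=
  DerivedCategory.Qh.mapIso (((DRing.gammaI I).mapHomotopyCategoryFactors (ComplexShape.up ℤ)).app J) ≪≫
    (DerivedCategory.quotientCompQhIso (ModuleCat.{u} A)).app ((ΓC I).obj J)

omit [DRing.HasRgammaI I] in
lemma facIso_naturality {J J' : DRing.Cx A} (g : J ⟶ J') :
    (DRing.gammaIKh I).map ((HomotopyCategory.quotient (ModuleCat.{u} A) (ComplexShape.up ℤ)).map g) ≫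
        (facIso I J').hom = (facIso I J).hom ≫ DerivedCategory.Q.map ((ΓC I).map g) := by
  have h1 := congrArg DerivedCategory.Qh.map
    (((DRing.gammaI I).mapHomotopyCategoryFactors (ComplexShape.up ℤ)).hom.naturality g)
  simp only [Functor.map_comp] at h1
  have h2 := (DerivedCategory.quotientCompQhIso (ModuleCat.{u} A)).hom.naturality ((ΓC I).map g)
  simp only [facIso, Iso.trans_hom, Functor.mapIso_hom, Iso.app_hom]
  refine (Category.assoc _ _ _).symm.trans ?_
  refine (congrArg (· ≫ (DerivedCategory.quotientCompQhIso (ModuleCat.{u} A)).hom.app ((ΓC I).obj J')) h1).trans ?_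
  refine (Category.assoc _ _ _).trans ((congrArg (_ ≫ ·) h2).trans (Category.assoc _ _ _).symm)

/-- `RΓ_I` of a K-injective complex. -/
noncomputable def rgObj (J : DRing.Cx A) [CochainComplex.IsKInjective J] :
    (DRing.RgammaI I).obj (DRing.toD J) ≅ DRing.toD ((ΓC I).obj J) :=
  (DRing.RgammaI I).mapIso ((DerivedCategory.quotientCompQhIso (ModuleCat.{u} A)).app J).symm ≪≫
    (asIso ((unit I).app ((HomotopyCategory.quotient (ModuleCat.{u} A) (ComplexShape.up ℤ)).obj J))).symm ≪≫
    facIso I J

lemma rgObj_naturality {J J' : DRing.Cx A} [CochainComplex.IsKInjective J] [CochainComplex.IsKInjective J']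
    (g : J ⟶ J') :
    (DRing.RgammaI I).map (DerivedCategory.Q.map g) ≫ (rgObj I J').hom =
      (rgObj I J).hom ≫ DerivedCategory.Q.map ((ΓC I).map g) := by
  have h1 := congrArg (DRing.RgammaI I).map
    ((DerivedCategory.quotientCompQhIso (ModuleCat.{u} A)).inv.naturality g)
  simp only [Functor.map_comp, Functor.comp_map] at h1
  have h2 := (unit I).naturality ((HomotopyCategory.quotient (ModuleCat.{u} A) (ComplexShape.up ℤ)).map g)
  have h2' : (DRing.RgammaI I).map (DerivedCategory.Qh.map
        ((HomotopyCategory.quotient (ModuleCat.{u} A) (ComplexShape.up ℤ)).map g)) ≫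
      inv ((unit I).app ((HomotopyCategory.quotient (ModuleCat.{u} A) (ComplexShape.up ℤ)).obj J')) =
      inv ((unit I).app ((HomotopyCategory.quotient (ModuleCat.{u} A) (ComplexShape.up ℤ)).obj J)) ≫
        (DRing.gammaIKh I).map ((HomotopyCategory.quotient (ModuleCat.{u} A) (ComplexShape.up ℤ)).map g) := by
    rw [IsIso.comp_inv_eq, Category.assoc, h2, IsIso.inv_hom_id_assoc]
    rfl
  simp only [rgObj, Iso.trans_hom, Functor.mapIso_hom, Iso.symm_hom, Iso.app_inv, asIso_inv]
  rw [← Category.assoc, h1, Category.assoc, ← Category.assoc ((DRing.RgammaI I).map _) (inv _) _, h2',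
    Category.assoc, facIso_naturality, Category.assoc, Category.assoc]

/-- The canonical map on a K-injective complex. -/
lemma rgObj_ε (J : DRing.Cx A) [CochainComplex.IsKInjective J] :
    (DRing.RgammaIε I).app (DRing.toD J) = (rgObj I J).hom ≫ DerivedCategory.Q.map (ιC I J) := by
  have hτ : (DRing.gammaIτ I).app ((HomotopyCategory.quotient (ModuleCat.{u} A) (ComplexShape.up ℤ)).obj J) =
      (facIso I J).hom ≫ DerivedCategory.Q.map (ιC I J) ≫
        (DerivedCategory.quotientCompQhIso (ModuleCat.{u} A)).inv.app J := by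
    have hn := (DerivedCategory.quotientCompQhIso (ModuleCat.{u} A)).inv.naturality (ιC I J)
    rw [hn]
    show (DRing.gammaIτ0 I).app J = _
    simp [DRing.gammaIτ0, facIso, ιC]
  have h := (DRing.RgammaI I).rightDerived_fac_app (unit I)
    (HomotopyCategory.quasiIso (ModuleCat.{u} A) (ComplexShape.up ℤ)) (𝟭 (Dual.D A))
    (DRing.gammaIτ I ≫ (Functor.rightUnitor _).inv)
    ((HomotopyCategory.quotient (ModuleCat.{u} A) (ComplexShape.up ℤ)).obj J)
  have hn := (DRing.RgammaIε I).naturality ((DerivedCategory.quotientCompQhIso (ModuleCat.{u} A)).inv.app J)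
  rw [Functor.id_map] at hn
  have hn' : (DRing.RgammaIε I).app (DRing.toD J) =
      (DRing.RgammaI I).map ((DerivedCategory.quotientCompQhIso (ModuleCat.{u} A)).inv.app J) ≫
        (DRing.RgammaIε I).app _ ≫ (DerivedCategory.quotientCompQhIso (ModuleCat.{u} A)).hom.app J := by
    rw [← Category.assoc, hn, Category.assoc, Iso.inv_hom_id_app]
    exact (Category.comp_id _).symm
  have hu : (DRing.RgammaIε I).app (DerivedCategory.Qh.obj ((HomotopyCategory.quotient (ModuleCat.{u} A) (ComplexShape.up ℤ)).obj J)) =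
      inv ((unit I).app ((HomotopyCategory.quotient (ModuleCat.{u} A) (ComplexShape.up ℤ)).obj J)) ≫
        (DRing.gammaIτ I).app ((HomotopyCategory.quotient (ModuleCat.{u} A) (ComplexShape.up ℤ)).obj J) := by
    rw [IsIso.eq_inv_comp]
    refine h.trans ?_
    simp
  rw [hn']
  erw [hu, hτ]
  simp only [rgObj, Iso.trans_hom, Functor.mapIso_hom, Iso.symm_hom, Iso.app_inv, asIso_inv, Category.assoc]
  congr 3

end Groth.Agent.H4DR.RG
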