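import Groth.Agent.H4DR.RG.CechModel
import Groth.Agent.H4DR.RHom.Cech
import Groth.Agent.H4DR.TorAmp.Derived
import Groth.Agent.H4DR.KFlatMod
import Mathlib.RingTheory.Flat.Stability
import Mathlib.Algebra.CharP.Frobenius

/-!
# The extended Čech complex and extension of scalars
-/

set_option autoImplicit false
set_option linter.style.haveILetI false
set_option linter.unusedVariables false

universe u

open CategoryTheory CategoryTheory.Limits
open Groth.Agent.H4DR.RHom (extend locUnit_extend hom_ext_locη smul_bijective_locC)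
open scoped TensorProduct

attribute [local instance] HasDerivedCategory.standard

namespace Groth.Agent.H4DR.RG

variable {A B : Type u} [CommRing A] [CommRing B] (φ : A →+* B)

/-- Extension of scalars. -/
noncomputable abbrev extF : ModuleCat.{u} A ⥤ ModuleCat.{u} B := ModuleCat.extendScalars.{u, u, u} φ

local notation "L" f => DerCA.locFunctor (Submonoid.powers f)
local notation "η" f => DerCA.locUnit (Submonoid.powers f)

lemma bij_loc {R : Type u} [CommRing R] (f : R) (M : ModuleCat.{u} R) :
    Function.Bijective (fun x : (L f).obj M => f • x) :=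
  (Module.End.isUnit_iff _).1 (IsLocalizedModule.map_units (LocalizedModule.mkLinearMap (Submonoid.powers f) M)
    ⟨f, Submonoid.mem_powers f⟩)

lemma bij_extend_loc (f : A) (M : ModuleCat.{u} A) :
    Function.Bijective (fun x : (extF φ).obj ((L f).obj M) => φ f • x) := by
  letI := φ.toAlgebra
  let e : ((L f).obj M : Type u) ≃ₗ[A] ((L f).obj M : Type u) :=
    LinearEquiv.ofBijective (LinearMap.lsmul A _ f) (bij_loc f M)
  let e' := LinearEquiv.baseChange A B _ _ e
  have he : ∀ x : B ⊗[A] ((L f).obj M : Type u), e' x = φ f • x := fun x => by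
    induction x using TensorProduct.induction_on with
    | zero => simp
    | tmul b m =>
      show b ⊗ₜ[A] (f • m) = (φ f * b) ⊗ₜ[A] m
      rw [← TensorProduct.smul_tmul]
      rfl
    | add a b ha hb => rw [map_add, ha, hb, smul_add]
  exact (funext he : ⇑e' = _) ▸ e'.bijective

lemma bij_restrict_loc (f : A) (N : ModuleCat.{u} B) :
    Function.Bijective (fun x : (ModuleCat.restrictScalars φ).obj ((L (φ f)).obj N) => f • x) :=
  bij_loc (φ f) N

/-- `B ⊗ M_f → (B ⊗ M)_f`. -/
noncomputable def locExtHom (f : A) (M : ModuleCat.{u} A) : (extF φ).obj ((L f).obj M) ⟶ (L (φ f)).obj ((extF φ).obj M) :=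
  ((ModuleCat.extendRestrictScalarsAdj φ).homEquiv _ _).symm
    (extend (bij_restrict_loc φ f ((extF φ).obj M))
      ((ModuleCat.extendRestrictScalarsAdj φ).homEquiv _ _ ((η (φ f)).app ((extF φ).obj M))))

/-- `(B ⊗ M)_f → B ⊗ M_f`. -/
noncomputable def locExtInv (f : A) (M : ModuleCat.{u} A) : (L (φ f)).obj ((extF φ).obj M) ⟶ (extF φ).obj ((L f).obj M) :=
  extend (bij_extend_loc φ f M) ((extF φ).map ((η f).app M))

lemma map_locUnit_locExtHom (f : A) (M : ModuleCat.{u} A) :
    (extF φ).map ((η f).app M) ≫ locExtHom φ f M = (η (φ f)).app ((extF φ).obj M) := by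
  apply ((ModuleCat.extendRestrictScalarsAdj φ).homEquiv M _).injective
  rw [Adjunction.homEquiv_naturality_left, locExtHom, Equiv.apply_symm_apply, locUnit_extend]

lemma locUnit_locExtInv (f : A) (M : ModuleCat.{u} A) :
    (η (φ f)).app ((extF φ).obj M) ≫ locExtInv φ f M = (extF φ).map ((η f).app M) :=
  locUnit_extend _ _

lemma ext_extend_loc {f : A} {M : ModuleCat.{u} A} {N : ModuleCat.{u} B}
    (hN : Function.Bijective (fun x : N => φ f • x)) {a b : (extF φ).obj ((L f).obj M) ⟶ N}
    (h : (extF φ).map ((η f).app M) ≫ a = (extF φ).map ((η f).app M) ≫ b) : a = b := by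
  apply ((ModuleCat.extendRestrictScalarsAdj φ).homEquiv _ N).injective
  refine hom_ext_locη (f := f) hN ?_
  rw [← Adjunction.homEquiv_naturality_left, ← Adjunction.homEquiv_naturality_left, h]

/-- Localization commutes with extension of scalars. -/
noncomputable def locExtIso (f : A) :
    (L f) ⋙ (extF φ) ≅ (extF φ) ⋙ (L (φ f)) :=
  NatIso.ofComponents (fun M =>
    { hom := locExtHom φ f M
      inv := locExtInv φ f M
      hom_inv_id := ext_extend_loc φ (bij_extend_loc φ f M) (by
        rw [← Category.assoc, map_locUnit_locExtHom, locUnit_locExtInv]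
        exact (Category.comp_id _).symm)
      inv_hom_id := hom_ext_locη (bij_loc (φ f) _) (by
        rw [← Category.assoc, locUnit_locExtInv, map_locUnit_locExtHom]
        exact (Category.comp_id _).symm) })
    (fun {M N} g => ext_extend_loc φ (bij_loc (φ f) _) (by
      show (extF φ).map ((η f).app M) ≫ (extF φ).map ((L f).map g) ≫ locExtHom φ f N =
        (extF φ).map ((η f).app M) ≫ locExtHom φ f M ≫ (L (φ f)).map ((extF φ).map g)
      rw [← Category.assoc, ← Functor.map_comp, ← (η f).naturality g, Functor.map_comp, Category.assoc,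
        map_locUnit_locExtHom, ← Category.assoc, map_locUnit_locExtHom]
      exact ((η (φ f)).naturality ((extF φ).map g))))

/-- Extension of scalars of complexes. -/
noncomputable abbrev extC : DRing.Cx A ⥤ DRing.Cx B := (extF φ).mapHomologicalComplex (ComplexShape.up ℤ)

/-- The mapping cocone of a commutative square of isomorphisms. -/
noncomputable def coconeIso {K₁ L₁ K₂ L₂ : DRing.Cx B} (φ₁ : K₁ ⟶ L₁) (φ₂ : K₂ ⟶ L₂) (a : K₁ ≅ K₂) (b : L₁ ≅ L₂)
    (comm : φ₁ ≫ b.hom = a.hom ≫ φ₂) :
    CochainComplex.mappingCocone φ₁ ≅ CochainComplex.mappingCocone φ₂ :=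
  (shiftFunctor (DRing.Cx B) (-1 : ℤ)).mapIso
    { hom := CochainComplex.mappingCone.map φ₁ φ₂ a.hom b.hom comm
      inv := CochainComplex.mappingCone.map φ₂ φ₁ a.inv b.inv (by
        rw [← cancel_mono b.hom, Category.assoc, Category.assoc, Iso.inv_hom_id, comm, Iso.inv_hom_id_assoc,
          Category.comp_id])
      hom_inv_id := by
        rw [← CochainComplex.mappingCone.map_comp]
        simp [CochainComplex.mappingCone.map_id]
      inv_hom_id := by
        rw [← CochainComplex.mappingCone.map_comp]
        simp [CochainComplex.mappingCone.map_id] }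

/-- Extension of scalars of a mapping cocone. -/
noncomputable def extCocone {K L' : DRing.Cx A} (g : K ⟶ L') :
    (extC φ).obj (CochainComplex.mappingCocone g) ≅ CochainComplex.mappingCocone ((extC φ).map g) :=
  ((extC φ).commShiftIso (-1 : ℤ)).app (CochainComplex.mappingCone g) ≪≫
    (shiftFunctor (DRing.Cx B) (-1 : ℤ)).mapIso (CochainComplex.mappingCone.mapHomologicalComplexIso g (extF φ))

/-- Termwise localization commutes with extension of scalars. -/
noncomputable def locCxExtIso (f : A) (K : DRing.Cx A) :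
    (extC φ).obj ((DerCA.locCx (Submonoid.powers f)).obj K) ≅
      (DerCA.locCx (Submonoid.powers (φ f))).obj ((extC φ).obj K) :=
  HomologicalComplex.Hom.isoOfComponents (fun i => (locExtIso φ f).app (K.X i))
    (fun i j _ => ((locExtIso φ f).hom.naturality (K.d i j)).symm)

theorem nonempty_extend_extCech (M : ModuleCat.{u} A) (N : ModuleCat.{u} B) (e : (extF φ).obj M ≅ N) :
    ∀ fs : List A, Nonempty ((extC φ).obj (DerCA.extCech M fs) ≅ DerCA.extCech N (fs.map φ))
  | [] => ⟨(HomologicalComplex.singleMapHomologicalComplex (extF φ) (ComplexShape.up ℤ) 0).app M ≪≫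
      (HomologicalComplex.single (ModuleCat.{u} B) (ComplexShape.up ℤ) 0).mapIso e⟩
  | f :: fs => by
    obtain ⟨c⟩ := nonempty_extend_extCech M N e fs
    refine ⟨extCocone φ _ ≪≫ coconeIso _ _ c
      (locCxExtIso φ f _ ≪≫ (DerCA.locCx (Submonoid.powers (φ f))).mapIso c) ?_⟩
    refine HomologicalComplex.hom_ext _ _ fun i => ?_
    show (extF φ).map ((η f).app ((DerCA.extCech M fs).X i)) ≫ locExtHom φ f _ ≫ (L (φ f)).map (c.hom.f i) =
      c.hom.f i ≫ (η (φ f)).app _
    rw [← Category.assoc, map_locUnit_locExtHom]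
    exact ((η (φ f)).naturality (c.hom.f i)).symm

/-- `B ⊗_A A = B`. -/
noncomputable def ridIso : (extF φ).obj (ModuleCat.of A A) ≅ ModuleCat.of B B :=
  letI := φ.toAlgebra
  LinearEquiv.toModuleIso (X₁ := (ModuleCat.extendScalars.{u, u, u} φ).obj (ModuleCat.of A A))
    (X₂ := ModuleCat.of B B) (TensorProduct.AlgebraTensorModule.rid A B B)

theorem flat_bounded_extCech (M : ModuleCat.{u} A) [Module.Flat A M] : ∀ fs : List A,
    DRing.TermwiseFlat (DerCA.extCech M fs) ∧ DRing.VanishesAbove (DerCA.extCech M fs) (fs.length : ℤ) := by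
  intro fs
  induction fs with
  | nil =>
    refine ⟨fun i => ?_, fun i hi => HomologicalComplex.isZero_single_obj_X (ComplexShape.up ℤ) 0 M i (by simp at hi; omega)⟩
    by_cases hi : i = 0
    · subst hi
      exact Module.Flat.of_linearEquiv (HomologicalComplex.singleObjXSelf (ComplexShape.up ℤ) 0 M).toLinearEquiv
    · haveI := ModuleCat.subsingleton_of_isZero (HomologicalComplex.isZero_single_obj_X (ComplexShape.up ℤ) 0 M i hi)
      haveI : Subsingleton ((DerCA.extCech M ([] : List A)).X i : Type u) := ‹_›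
      haveI : Module.Projective A ((DerCA.extCech M ([] : List A)).X i : Type u) :=
        Module.Projective.of_free
      exact inferInstance
  | cons f fs ih =>
    obtain ⟨h1, h2⟩ := ih
    refine ⟨fun i => ?_, fun i hi => ?_⟩
    · haveI := h1 i
      haveI := h1 (i - 1)
      haveI : Module.Flat A (LocalizedModule (Submonoid.powers f) ((DerCA.extCech M fs).X (i - 1))) := by
        haveI := IsLocalization.flat (Localization (Submonoid.powers f)) (Submonoid.powers f)
        exact Module.Flat.trans A (Localization (Submonoid.powers f)) _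
      haveI : Module.Flat A (((DerCA.locCx (Submonoid.powers f)).obj (DerCA.extCech M fs)).X (i - 1) : Type u) :=
        ‹Module.Flat A (LocalizedModule (Submonoid.powers f) ((DerCA.extCech M fs).X (i - 1)))›
      exact Module.Flat.of_linearEquiv
        (H4Cech.kl (DerCA.locCxUnit (Submonoid.powers f) (DerCA.extCech M fs)) (i - 1) i (by omega))
    · simp only [List.length_cons, Nat.cast_add, Nat.cast_one] at hi
      haveI := ModuleCat.subsingleton_of_isZero (h2 i (by omega))
      haveI := ModuleCat.subsingleton_of_isZero (h2 (i - 1) (by omega))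
      haveI : Subsingleton (LocalizedModule (Submonoid.powers f) ((DerCA.extCech M fs).X (i - 1))) :=
        subsingleton_of_forall_eq 0 fun z => by
          induction z using LocalizedModule.induction_on with
          | h x s => rw [Subsingleton.elim x 0, LocalizedModule.zero_mk]
      haveI : Subsingleton (((DerCA.locCx (Submonoid.powers f)).obj (DerCA.extCech M fs)).X (i - 1) : Type u) :=
        ‹Subsingleton (LocalizedModule (Submonoid.powers f) ((DerCA.extCech M fs).X (i - 1)))›
      exact ModuleCat.isZero_iff_subsingleton.2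
        (H4Cech.kl (DerCA.locCxUnit (Submonoid.powers f) (DerCA.extCech M fs)) (i - 1) i (by omega)).injective.subsingleton

section

variable [IsNoetherianRing A] {J : Ideal A} [DRing.HasRgammaI J]

/-- `RΓ_J` from a list generating `J` up to radical. -/
theorem nonempty_rgamma_extCech_of_radical (fs : List A) (h1 : Ideal.ofList fs ≤ J) {k : ℕ}
    (h2 : J ^ k ≤ Ideal.ofList fs) (M : ModuleCat.{u} A) :
    Nonempty ((DRing.RgammaI J).obj (Dual.inD A M) ≅ DRing.toD (DerCA.extCech M fs)) := by
  have hb : ∀ T : Dual.D A, IsTors J T →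
      Function.Bijective (fun y : T ⟶ DRing.toD (DerCA.extCech M fs) => y ≫ augD M fs) := fun T hT =>
    bijective_postcomp_augD M fs T fun f hf i x => by
      obtain ⟨N, hN⟩ := hT i x
      exact ⟨N, hN _ (Ideal.pow_mem_pow (h1 (mem_ofList hf)) N)⟩
  have hC : IsTors J (DRing.toD (DerCA.extCech M fs)) := fun i x => by
    obtain ⟨N, hN⟩ := isTors_extCech M fs i x
    exact ⟨k * N, fun a ha => hN a (Ideal.pow_right_mono h2 N (by rwa [← pow_mul]))⟩
  have hR := isTors_rgamma (I := J) ((DerivedCategory.singleFunctor (ModuleCat.{u} A) 0).obj M)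
  obtain ⟨u, hu⟩ := (hb _ hR).2 ((DRing.RgammaIε J).app _)
  obtain ⟨v, hv⟩ := (bijective_postcomp_ε hC ((DerivedCategory.singleFunctor (ModuleCat.{u} A) 0).obj M)).2
    (augD M fs)
  refine ⟨⟨u, v, (bijective_postcomp_ε hR _).1 ?_, (hb _ hC).1 ?_⟩⟩
  · show (u ≫ v) ≫ _ = 𝟙 _ ≫ _
    rw [Category.assoc, Category.id_comp]
    exact (congrArg (u ≫ ·) hv).trans hu
  · show (v ≫ u) ≫ _ = 𝟙 _ ≫ _
    rw [Category.assoc, Category.id_comp]
    exact (congrArg (v ≫ ·) hu).trans hv

end

section

variable [IsNoetherianRing A] (p : ℕ) [Fact p.Prime] [CharP A p]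

theorem nonempty_frobenius_rgamma (I : Ideal A) [DRing.HasRgammaI I] [DRing.HasLBaseChange (frobenius A p)] :
    Nonempty ((DRing.LBaseChange (frobenius A p)).obj ((DRing.RgammaI I).obj (Dual.inD A A)) ≅
      (DRing.RgammaI I).obj (Dual.inD A A)) := by
  obtain ⟨fs, hfs⟩ := exists_ofList_eq (IsNoetherian.noetherian I)
  subst hfs
  have hp1 : 1 ≤ p := (Fact.out : p.Prime).one_lt.le
  have h1 : Ideal.ofList (fs.map (frobenius A p)) ≤ Ideal.ofList fs := Ideal.span_le.2 fun x hx => by
    simp only [Set.mem_ofPred_eq, List.mem_map] at hx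
    obtain ⟨y, hy, rfl⟩ := hx
    rw [frobenius_def]
    exact Ideal.pow_mem_of_mem _ (mem_ofList hy) p hp1
  obtain ⟨k, hk⟩ : ∃ k, Ideal.ofList fs ^ k ≤ Ideal.ofList (fs.map (frobenius A p)) := by
    refine Ideal.exists_pow_le_of_le_radical_of_fg (Ideal.span_le.2 fun x hx => ⟨p, ?_⟩) (IsNoetherian.noetherian _)
    exact mem_ofList (List.mem_map.2 ⟨x, hx, frobenius_def ..⟩)
  obtain ⟨r₀⟩ := nonempty_rgamma_extCech_of_radical (J := Ideal.ofList fs) fs le_rfl (k := 1) (pow_one _).le
    (ModuleCat.of A A)
  obtain ⟨r₁⟩ := nonempty_rgamma_extCech_of_radical (J := Ideal.ofList fs) (fs.map (frobenius A p)) h1 hk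
    (ModuleCat.of A A)
  obtain ⟨c⟩ := nonempty_extend_extCech (frobenius A p) (ModuleCat.of A A) (ModuleCat.of A A)
    (ridIso (frobenius A p)) fs
  obtain ⟨hf, hv⟩ := flat_bounded_extCech (ModuleCat.of A A) fs
  exact ⟨(DRing.LBaseChange (frobenius A p)).mapIso r₀ ≪≫
    TorAmp.lbaseObj (frobenius A p) _ (KFlatMod.isKFlat_of_boundedAbove _ _ hv hf) ≪≫
    DerivedCategory.Q.mapIso c ≪≫ r₁.symm⟩

end

end Groth.Agent.H4DR.RG
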