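import Groth.Agent.H4DR.RG.GM
import Groth.Agent.H4Cech.Compare
import Groth.Agent.H4LC.LC

/-!
# `RΓ_J` of a module as an extended Čech complex
-/

set_option autoImplicit false
set_option linter.style.haveILetI false
set_option linter.unusedVariables false

universe u

open CategoryTheory CategoryTheory.Limits CochainComplex Pretriangulated
open Groth.Agent.H4DR.PCoh
open Groth.Agent.H4Cech (mapX fC sC C_ext lmap lmap_mk mapX_fstc mapX_sndc)

attribute [local instance] HasDerivedCategory.standard

namespace Groth.Agent.H4DR.RG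

variable {A : Type u} [CommRing A] {M N P : ModuleCat.{u} A}

lemma subsingleton_single (M : ModuleCat.{u} A) (p : ℤ) (hp : p ≠ 0) :
    Subsingleton ((DerCA.extCech M ([] : List A)).X p) :=
  ModuleCat.isZero_iff_subsingleton.1 (HomologicalComplex.isZero_single_obj_X (ComplexShape.up ℤ) 0 M p hp)

/-- The Čech complex as a functor of the module. -/
noncomputable def chMap (g : M ⟶ N) (fs : List A) : DerCA.extCech M fs ⟶ DerCA.extCech N fs where
  f p := ModuleCat.ofHom (mapX g fs p)
  comm' p p' h := ModuleCat.hom_ext (LinearMap.ext fun x => (H4Cech.mapX_d g fs p p' h x).symm)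

lemma lmap_ext {f : A} {X Y : Type u} [AddCommGroup X] [Module A X] [AddCommGroup Y] [Module A Y]
    {a b : LocalizedModule (Submonoid.powers f) X →ₗ[A] LocalizedModule (Submonoid.powers f) Y}
    (h : ∀ x s, a (LocalizedModule.mk x s) = b (LocalizedModule.mk x s)) (z : LocalizedModule (Submonoid.powers f) X) :
    a z = b z := by
  induction z using LocalizedModule.induction_on with
  | h x s => exact h x s

theorem mapX_comp (g : M ⟶ N) (g' : N ⟶ P) : ∀ (fs : List A) (p : ℤ) (x : (DerCA.extCech M fs).X p),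
    mapX (g ≫ g') fs p x = mapX g' fs p (mapX g fs p x) := by
  intro fs
  induction fs with
  | nil =>
    intro p x
    show ((((HomologicalComplex.single (ModuleCat.{u} A) (ComplexShape.up ℤ) 0).map (g ≫ g')).f p)).hom x = _
    rw [Functor.map_comp]
    rfl
  | cons f fs ih =>
    intro p x
    refine C_ext P f fs (q := p - 1) (by omega) ?_ ?_
    · rw [mapX_fstc, mapX_fstc, mapX_fstc, ih]
    · rw [mapX_sndc, mapX_sndc, mapX_sndc]
      refine lmap_ext (b := lmap f (mapX g' fs (p - 1)) ∘ₗ lmap f (mapX g fs (p - 1))) (fun y s => ?_) _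
      rw [LinearMap.comp_apply, lmap_mk, lmap_mk, lmap_mk, ih]

theorem mapX_add (g g' : M ⟶ N) : ∀ (fs : List A) (p : ℤ) (x : (DerCA.extCech M fs).X p),
    mapX (g + g') fs p x = mapX g fs p x + mapX g' fs p x := by
  intro fs
  induction fs with
  | nil =>
    intro p x
    show ((((HomologicalComplex.single (ModuleCat.{u} A) (ComplexShape.up ℤ) 0).map (g + g')).f p)).hom x = _
    rw [Functor.map_add]
    rfl
  | cons f fs ih =>
    intro p x
    refine C_ext N f fs (q := p - 1) (by omega) ?_ ?_
    · rw [map_add, mapX_fstc, mapX_fstc, mapX_fstc, ih]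
    · rw [map_add, mapX_sndc, mapX_sndc, mapX_sndc]
      rw [show mapX (g + g') fs (p - 1) = mapX g fs (p - 1) + mapX g' fs (p - 1) from LinearMap.ext (ih _)]
      exact LinearMap.congr_fun (map_add (IsLocalizedModule.map (Submonoid.powers f) _ _) _ _) _

theorem mapX_smul_id (a : A) : ∀ (fs : List A) (p : ℤ) (x : (DerCA.extCech M fs).X p),
    mapX (a • 𝟙 M) fs p x = a • x := by
  intro fs
  induction fs with
  | nil =>
    intro p x
    show ((((HomologicalComplex.single (ModuleCat.{u} A) (ComplexShape.up ℤ) 0).map (a • 𝟙 M)).f p)).hom x = _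
    by_cases hp : p = 0
    · subst hp
      rw [HomologicalComplex.single_map_f_self]
      simp
      rfl
    · exact @Subsingleton.elim _ (subsingleton_single M p hp) _ _
  | cons f fs ih =>
    intro p x
    refine C_ext M f fs (q := p - 1) (by omega) ?_ ?_
    · rw [map_smul, mapX_fstc, ih]
    · rw [map_smul, mapX_sndc]
      refine lmap_ext (a := lmap f (mapX (a • 𝟙 M) fs (p - 1))) (b := a • LinearMap.id) (fun y s => ?_)
        (sC M f fs (p - 1) p (by omega) x)
      rw [LinearMap.smul_apply, LinearMap.id_apply, lmap_mk, ih, LocalizedModule.smul'_mk]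

/-- The augmentation to the module in degree `0`. -/
noncomputable def augC (M : ModuleCat.{u} A) : ∀ fs : List A, DerCA.extCech M fs ⟶ Hom.sgl 0 M
  | [] => 𝟙 _
  | f :: fs => mappingCocone.fst (DerCA.locCxUnit (Submonoid.powers f) (DerCA.extCech M fs)) ≫ augC M fs

lemma chMap_augC (g : M ⟶ N) : ∀ fs : List A, chMap g fs ≫ augC N fs =
    augC M fs ≫ (HomologicalComplex.single (ModuleCat.{u} A) (ComplexShape.up ℤ) 0).map g := by
  intro fs
  induction fs with
  | nil =>
    refine HomologicalComplex.Hom.ext ?_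
    funext p
    exact ModuleCat.hom_ext (LinearMap.ext fun _ => rfl)
  | cons f fs ih =>
    have h1 : chMap g (f :: fs) ≫ mappingCocone.fst (DerCA.locCxUnit (Submonoid.powers f) (DerCA.extCech N fs)) =
        mappingCocone.fst (DerCA.locCxUnit (Submonoid.powers f) (DerCA.extCech M fs)) ≫ chMap g fs := by
      refine HomologicalComplex.Hom.ext ?_
      funext p
      exact ModuleCat.hom_ext (LinearMap.ext fun x => mapX_fstc g f fs p x)
    exact (Category.assoc _ _ _).symm.trans ((congrArg (· ≫ augC N fs) h1).trans ((Category.assoc _ _ _).trans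
      ((congrArg (_ ≫ ·) ih).trans (Category.assoc _ _ _).symm)))

/-- The augmentation in `D(A)`. -/
noncomputable abbrev augD (M : ModuleCat.{u} A) (fs : List A) :
    DRing.toD (DerCA.extCech M fs) ⟶ (DerivedCategory.singleFunctor (ModuleCat.{u} A) 0).obj M :=
  DerivedCategory.Q.map (augC M fs)

/-- The augmentation is universal from torsion objects. -/
theorem bijective_postcomp_augD (M : ModuleCat.{u} A) : ∀ (fs : List A) (T : Dual.D A),
    (∀ f ∈ fs, ∀ i, ∀ x : Dual.HD A T i, ∃ N : ℕ, f ^ N • x = 0) →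
    Function.Bijective (fun y : T ⟶ DRing.toD (DerCA.extCech M fs) => y ≫ augD M fs) := by
  intro fs
  induction fs with
  | nil =>
    intro T _
    refine Eq.mp (congrArg Function.Bijective (funext fun y => ?_)) Function.bijective_id
    show y = y ≫ DerivedCategory.Q.map (𝟙 (DerCA.extCech M ([] : List A)))
    rw [CategoryTheory.Functor.map_id]
    exact (Category.comp_id y).symm
  | cons f fs ih =>
    intro T hT
    let η := DerCA.locCxUnit (Submonoid.powers f) (DerCA.extCech M fs)
    have hW : ∀ i, Function.Bijective (fun x : (RHom.locC f (DerCA.extCech M fs)).X i => f • x) :=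
      RHom.smul_bijective_locC f _
    have hb := bijective_postcomp_mor₁ (DerivedCategory.mappingCocone_triangle_distinguished η) T
      (fun y => hom_eq_zero_of_torsion _ hW (hT f List.mem_cons_self) y)
      (fun y => (cancel_mono ((DerivedCategory.Q.commShiftIso (-1 : ℤ)).inv.app
          (RHom.locC f (DerCA.extCech M fs)))).1 ((hom_eq_zero_of_torsion
            ((RHom.locC f (DerCA.extCech M fs))⟦(-1 : ℤ)⟧) (fun i => hW (i + -1))
            (hT f List.mem_cons_self) _).trans zero_comp.symm))
    refine Eq.mp (congrArg Function.Bijective (funext fun y => ?_))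
      ((ih T (fun g hg => hT g (List.mem_cons_of_mem _ hg))).comp hb)
    show (y ≫ DerivedCategory.Q.map (mappingCocone.fst η)) ≫ DerivedCategory.Q.map (augC M fs) = _
    exact (Category.assoc _ _ _).trans (congrArg (fun t => y ≫ t) (DerivedCategory.Q.map_comp _ _).symm)

variable [IsNoetherianRing A]

theorem isTors_extCech (M : ModuleCat.{u} A) (fs : List A) :
    IsTors (Ideal.ofList fs) (DRing.toD (DerCA.extCech M fs)) := by
  intro p x
  let η := ((DerivedCategory.homologyFunctorFactors (ModuleCat.{u} A) p).app (DerCA.extCech M fs)).toLinearEquiv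
  rcases lt_or_ge p 0 with hp | hp
  · haveI := H4Cech.subsingleton_X_of_neg M fs p hp
    refine ⟨0, fun a _ => η.injective ?_⟩
    obtain ⟨c, hc⟩ := (ModuleCat.epi_iff_surjective ((DerCA.extCech M fs).homologyπ p)).1 inferInstance (η (a • x))
    refine hc.symm.trans ((congrArg _ ((ModuleCat.mono_iff_injective ((DerCA.extCech M fs).iCycles p)).1 inferInstance
      (Subsingleton.elim ((DerCA.extCech M fs).iCycles p c) ((DerCA.extCech M fs).iCycles p 0)))).trans ?_)
    exact (map_zero _).trans (map_zero η).symm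
  · obtain ⟨i, rfl⟩ := Int.eq_ofNat_of_zero_le hp
    obtain ⟨e⟩ := H4Cech.nonempty_extCechH_iso fs M i
    obtain ⟨n, hn⟩ := H4LC.isPowerTorsion_H (H4Cech.listIdeal fs) i M (e.toLinearEquiv (η x))
    exact ⟨n, fun a ha => η.injective (e.toLinearEquiv.injective
      (((congrArg e.toLinearEquiv (map_smul η a x)).trans (map_smul e.toLinearEquiv a _)).trans
        ((hn a ha).trans ((congrArg e.toLinearEquiv (map_zero η)).trans (map_zero e.toLinearEquiv)).symm)))⟩

variable {J : Ideal A} [DRing.HasRgammaI J] {fs : List A}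

theorem exists_rgamma_cech (hfs : Ideal.ofList fs = J) (M : ModuleCat.{u} A) :
    ∃ e : (DRing.RgammaI J).obj ((DerivedCategory.singleFunctor (ModuleCat.{u} A) 0).obj M) ≅
        DRing.toD (DerCA.extCech M fs),
      e.hom ≫ augD M fs = (DRing.RgammaIε J).app _ := by
  subst hfs
  have hb : ∀ T : Dual.D A, IsTors (Ideal.ofList fs) T →
      Function.Bijective (fun y : T ⟶ DRing.toD (DerCA.extCech M fs) => y ≫ augD M fs) := fun T hT =>
    bijective_postcomp_augD M fs T fun f hf i x => by
      obtain ⟨N, hN⟩ := hT i x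
      exact ⟨N, hN _ (Ideal.pow_mem_pow (mem_ofList hf) N)⟩
  have hR := isTors_rgamma (I := Ideal.ofList fs) ((DerivedCategory.singleFunctor (ModuleCat.{u} A) 0).obj M)
  have hC := isTors_extCech M fs
  obtain ⟨u, hu⟩ := (hb _ hR).2 ((DRing.RgammaIε (Ideal.ofList fs)).app _)
  obtain ⟨v, hv⟩ := (bijective_postcomp_ε hC ((DerivedCategory.singleFunctor (ModuleCat.{u} A) 0).obj M)).2
    (augD M fs)
  refine ⟨⟨u, v, (bijective_postcomp_ε hR _).1 ?_, (hb _ hC).1 ?_⟩, hu⟩
  · show (u ≫ v) ≫ _ = 𝟙 _ ≫ _
    rw [Category.assoc, Category.id_comp]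
    exact (congrArg (u ≫ ·) hv).trans hu
  · show (v ≫ u) ≫ _ = 𝟙 _ ≫ _
    rw [Category.assoc, Category.id_comp]
    exact (congrArg (v ≫ ·) hu).trans hv

/-- The Čech model of `RΓ_J`. -/
noncomputable def cechIso (hfs : Ideal.ofList fs = J) (M : ModuleCat.{u} A) :=
  (exists_rgamma_cech hfs M).choose

lemma cechIso_ε (hfs : Ideal.ofList fs = J) (M : ModuleCat.{u} A) :
    (cechIso hfs M).hom ≫ augD M fs = (DRing.RgammaIε J).app _ :=
  (exists_rgamma_cech hfs M).choose_spec

lemma cechIso_naturality (hfs : Ideal.ofList fs = J) {M N : ModuleCat.{u} A} (g : M ⟶ N) :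
    (cechIso hfs M).hom ≫ DerivedCategory.Q.map (chMap g fs) =
      (DRing.RgammaI J).map ((DerivedCategory.singleFunctor (ModuleCat.{u} A) 0).map g) ≫ (cechIso hfs N).hom := by
  refine (bijective_postcomp_augD N fs _ fun f hf i x => ?_).1 ?_
  · obtain ⟨n, hn⟩ := isTors_rgamma (I := J) ((DerivedCategory.singleFunctor (ModuleCat.{u} A) 0).obj M) i x
    exact ⟨n, hn _ (Ideal.pow_mem_pow (hfs ▸ mem_ofList hf) n)⟩
  · show (_ ≫ _) ≫ augD N fs = (_ ≫ _) ≫ augD N fs
    have h1 : DerivedCategory.Q.map (chMap g fs) ≫ augD N fs =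
        augD M fs ≫ (DerivedCategory.singleFunctor (ModuleCat.{u} A) 0).map g :=
      (DerivedCategory.Q.map_comp _ _).symm.trans ((congrArg DerivedCategory.Q.map (chMap_augC g fs)).trans
        (DerivedCategory.Q.map_comp _ _))
    rw [Category.assoc, Category.assoc, cechIso_ε, (DRing.RgammaIε J).naturality, h1, ← Category.assoc, cechIso_ε]
    rfl

end Groth.Agent.H4DR.RG
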