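import Groth.Agent.H4DR.RG.HomColim
import Groth.Agent.H4DR.TorAmp.Derived
import Groth.Agent.H4LC.FlatBaseChange
import Groth.Agent.H25DTen.Exists
import Mathlib.LinearAlgebra.TensorProduct.Tower

/-!
# Change of rings for `H^i_I`
-/

set_option autoImplicit false
set_option linter.style.haveILetI false
set_option linter.unusedVariables false

universe u

open CategoryTheory CategoryTheory.Limits
open Groth.Agent.H4DR.PCoh
open scoped TensorProduct

attribute [local instance] HasDerivedCategory.standard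

namespace Groth.Agent.H4DR.RG

variable {A B : Type u} [CommRing A] [CommRing B] [Algebra A B]

local notation "φ" => algebraMap A B

lemma mem_torsionSub_restrict (K : Ideal A) (M : ModuleCat.{u} B)
    (x : (ModuleCat.restrictScalars φ).obj M) :
    x ∈ DRing.torsionSub K ((ModuleCat.restrictScalars φ).obj M) ↔
      (show M from x) ∈ DRing.torsionSub (K.map φ) M := by
  constructor
  · rintro ⟨n, hn⟩
    refine ⟨n, fun b hb => ?_⟩
    rw [← Ideal.map_pow, Ideal.map] at hb
    induction hb using Submodule.span_induction with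
    | mem y hy =>
      obtain ⟨a, ha, rfl⟩ := hy
      exact hn a ha
    | zero => exact zero_smul _ _
    | add y z _ _ hy hz => rw [add_smul, hy, hz, add_zero]
    | smul r y _ hy => rw [smul_eq_mul, mul_smul, hy, smul_zero]
  · rintro ⟨n, hn⟩
    exact ⟨n, fun a ha => hn _ (by rw [← Ideal.map_pow]; exact Ideal.mem_map_of_mem _ ha)⟩

theorem good_restrict (M : ModuleCat.{u} B) : ∀ fs : List A, Good M (fs.map φ) →
    Good ((ModuleCat.restrictScalars φ).obj M) fs
  | [], _ => trivial
  | f :: fs, h => by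
    refine ⟨fun x hx => ?_, good_restrict M fs h.2⟩
    rw [mem_torsionSub_restrict, Ideal.map_ofList] at hx
    obtain ⟨y, hy, hy'⟩ := h.1 _ hx
    refine ⟨y, ?_, ?_⟩
    · refine (mem_torsionSub_restrict (Ideal.ofList fs) M y).2 ?_
      rw [Ideal.map_ofList]
      exact hy
    · refine (mem_torsionSub_restrict (Ideal.ofList (f :: fs)) M _).2 ?_
      rw [Ideal.map_ofList]
      exact hy'

/-- `Γ` commutes with restriction of scalars on a module. -/
noncomputable def ΓrestrictObj (I : Ideal A) (M : ModuleCat.{u} B) :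
    (DRing.gammaI I).obj ((ModuleCat.restrictScalars.{u} φ).obj M) ≅
      (ModuleCat.restrictScalars.{u} φ).obj ((DRing.gammaI (I.map φ)).obj M) where
  hom := ModuleCat.ofHom (X := (DRing.gammaI I).obj ((ModuleCat.restrictScalars.{u} φ).obj M))
    (Y := (ModuleCat.restrictScalars.{u} φ).obj ((DRing.gammaI (I.map φ)).obj M))
    { toFun := fun x => (⟨x.1, (mem_torsionSub_restrict I M x.1).1 x.2⟩ : DRing.torsionSub (I.map φ) M)
      map_add' := fun _ _ => rfl
      map_smul' := fun _ _ => rfl }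
  inv := ModuleCat.ofHom (X := (ModuleCat.restrictScalars.{u} φ).obj ((DRing.gammaI (I.map φ)).obj M))
    (Y := (DRing.gammaI I).obj ((ModuleCat.restrictScalars.{u} φ).obj M))
    { toFun := fun x => ⟨(x : DRing.torsionSub (I.map φ) M).1,
        (mem_torsionSub_restrict I M _).2 (x : DRing.torsionSub (I.map φ) M).2⟩
      map_add' := fun _ _ => rfl
      map_smul' := fun _ _ => rfl }

/-- `Γ` commutes with restriction of scalars. -/
noncomputable def ΓrestrictIso (I : Ideal A) (P : DRing.Cx B) :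
    (ΓC I).obj (((ModuleCat.restrictScalars.{u} φ).mapHomologicalComplex (ComplexShape.up ℤ)).obj P) ≅
      ((ModuleCat.restrictScalars.{u} φ).mapHomologicalComplex (ComplexShape.up ℤ)).obj ((ΓC (I.map φ)).obj P) :=
  HomologicalComplex.Hom.isoOfComponents (fun i => ΓrestrictObj I (P.X i))
    (fun i j _ => ModuleCat.hom_ext (LinearMap.ext fun _ => rfl))

variable [IsNoetherianRing A] [IsNoetherianRing B]

theorem nonempty_HDI_restrict (I : Ideal A) (K : Dual.D B) (i : ℤ) :
    Nonempty (Dual2.HDI A I ((DRing.restrictD φ).obj K) i ≅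
      (ModuleCat.restrictScalars φ).obj (Dual2.HDI B (I.map φ) K i)) := by
  haveI := hasRgammaI I
  haveI := hasRgammaI (I.map φ)
  obtain ⟨fs, hfs⟩ := exists_ofList_eq (IsNoetherian.noetherian I)
  obtain ⟨J, hJ, hinj, ⟨e⟩⟩ := exists_model K
  let G := ModuleCat.restrictScalars.{u} φ
  let P := (G.mapHomologicalComplex (ComplexShape.up ℤ)).obj J
  obtain ⟨eP, -⟩ := exists_rgamma_good hfs P
    (fun n => good_restrict (J.X n) fs (@good_of_injective B _ _ _ _ _ (hinj n) _))
  obtain ⟨cA⟩ := nonempty_equiv_HDI I ((DRing.restrictD φ).obj K) i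
  obtain ⟨cB⟩ := nonempty_equiv_HDI (I.map φ) K i
  let HJ := ((ΓC (I.map φ)).obj J).homology i
  let eA : Dual2.HDI A I ((DRing.restrictD φ).obj K) i ≃ₗ[A] G.obj HJ :=
    cA.symm.trans ((hEquiv i ((DRing.RgammaI I).mapIso
      ((DRing.restrictD φ).mapIso e.symm ≪≫ G.mapDerivedCategoryFactors.app J) ≪≫ eP ≪≫
        DerivedCategory.Q.mapIso (ΓrestrictIso I J))).trans
      (((DerivedCategory.homologyFunctorFactors (ModuleCat.{u} A) i).app
          ((G.mapHomologicalComplex (ComplexShape.up ℤ)).obj ((ΓC (I.map φ)).obj J))).toLinearEquiv.trans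
        ((((ΓC (I.map φ)).obj J).sc i).mapHomologyIso G).toLinearEquiv))
  let eB : Dual2.HDI B (I.map φ) K i ≃ₗ[B] HJ :=
    cB.symm.trans ((hEquiv i ((DRing.RgammaI (I.map φ)).mapIso e.symm ≪≫ rgObj (I.map φ) J)).trans
      ((DerivedCategory.homologyFunctorFactors (ModuleCat.{u} B) i).app _).toLinearEquiv)
  let e' : Dual2.HDI A I ((DRing.restrictD φ).obj K) i ≃ₗ[A]
      (ModuleCat.restrictScalars φ).obj (Dual2.HDI B (I.map φ) K i) :=
    { toFun := fun x => eB.symm (eA x)
      map_add' := fun x y => (congrArg eB.symm (map_add eA x y)).trans (map_add eB.symm _ _)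
      map_smul' := fun a x => (congrArg eB.symm (map_smul eA a x)).trans (map_smul eB.symm (φ a) _)
      invFun := fun y => eA.symm (eB y)
      left_inv := fun x => (congrArg eA.symm (eB.apply_symm_apply _)).trans (eA.symm_apply_apply x)
      right_inv := fun y => (congrArg eB.symm (eA.apply_symm_apply _)).trans (eB.symm_apply_apply y) }
  exact ⟨e'.toModuleIso⟩

section Flat

variable [Module.Flat A B]

omit [IsNoetherianRing B] in
theorem good_extend (M : Type u) [AddCommGroup M] [Module A M] : ∀ fs : List A, Good M fs →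
    Good (B ⊗[A] M) (fs.map φ)
  | [], _ => trivial
  | f :: fs, h => by
    refine ⟨fun x hx => ?_, good_extend M fs h.2⟩
    rw [← Ideal.map_ofList, ← H4LC.range_baseChange_subtype] at hx
    obtain ⟨z, rfl⟩ := hx
    induction z using TensorProduct.induction_on with
    | zero => exact ⟨0, zero_mem _, by simp⟩
    | tmul b m =>
      obtain ⟨y, hy, hy'⟩ := h.1 m.1 m.2
      refine ⟨b ⊗ₜ y, ?_, ?_⟩
      · rw [← Ideal.map_ofList, ← H4LC.range_baseChange_subtype]
        exact ⟨b ⊗ₜ ⟨y, hy⟩, rfl⟩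
      · rw [← List.map_cons, ← Ideal.map_ofList, ← H4LC.range_baseChange_subtype]
        refine ⟨b ⊗ₜ ⟨_, hy'⟩, ?_⟩
        rw [algebraMap_smul, LinearMap.baseChange_tmul, LinearMap.baseChange_tmul, ← TensorProduct.tmul_smul,
          ← TensorProduct.tmul_sub]
        rfl
    | add a b ha hb =>
      obtain ⟨y, hy, hy'⟩ := ha
      obtain ⟨y', hy₂, hy₂'⟩ := hb
      refine ⟨y + y', add_mem hy hy₂, ?_⟩
      rw [map_add, smul_add, add_sub_add_comm]
      exact add_mem hy' hy₂'

end Flat

/-- `Γ` commutes with flat extension of scalars. -/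
noncomputable def ΓextIso (ψ : A →+* B) (hψ : ψ.Flat) (I : Ideal A) (P : DRing.Cx A) :
    ((ModuleCat.extendScalars.{u, u, u} ψ).mapHomologicalComplex (ComplexShape.up ℤ)).obj ((ΓC I).obj P) ≅
      (ΓC (I.map ψ)).obj
        (((ModuleCat.extendScalars.{u, u, u} ψ).mapHomologicalComplex (ComplexShape.up ℤ)).obj P) :=
  letI := ψ.toAlgebra
  haveI : Module.Flat A B := hψ
  HomologicalComplex.Hom.isoOfComponents (fun i => LinearEquiv.toModuleIso
      (X₁ := (ModuleCat.extendScalars.{u, u, u} ψ).obj ((DRing.gammaI I).obj (P.X i)))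
      (X₂ := (DRing.gammaI (I.map ψ)).obj ((ModuleCat.extendScalars.{u, u, u} ψ).obj (P.X i)))
      (H4LC.gammaBaseChange B I (P.X i)))
    (fun i j _ => by
      refine ModuleCat.hom_ext (LinearMap.ext fun (x : B ⊗[A] DRing.torsionSub I (P.X i)) => Subtype.ext ?_)
      induction x using TensorProduct.induction_on with
      | zero => exact (congrArg Subtype.val (map_zero _)).trans (congrArg Subtype.val (map_zero _)).symm
      | tmul b m => rfl
      | add x y hx hy =>
        exact ((congrArg Subtype.val (map_add _ x y)).trans (congrArg₂ (· + ·) hx hy)).trans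
          (congrArg Subtype.val (map_add _ x y)).symm)

omit [Algebra A B] [IsNoetherianRing B] in
theorem good_extendScalars (ψ : A →+* B) (hψ : ψ.Flat) (M : ModuleCat.{u} A) (fs : List A) (h : Good M fs) :
    Good ((ModuleCat.extendScalars.{u, u, u} ψ).obj M) (fs.map ψ) :=
  letI := ψ.toAlgebra
  haveI : Module.Flat A B := hψ
  good_extend (B := B) M fs h

/-- Base change of an equivalence to extended scalars. -/
noncomputable def extEquiv (ψ : A →+* B) (M : ModuleCat.{u} A) (N : ModuleCat.{u + 1} A) (e : M ≃ₗ[A] N) :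
    (ModuleCat.extendScalars ψ).obj M ≃ₗ[B] (ModuleCat.extendScalars ψ).obj N :=
  letI := ψ.toAlgebra
  LinearEquiv.baseChange A B M N e

theorem nonempty_HDI_extend [Module.Flat A B] [DRing.HasLBaseChange φ] (I : Ideal A) (K : Dual.D A) (i : ℤ) :
    Nonempty (Dual2.HDI B (I.map φ) ((DRing.LBaseChange φ).obj K) i ≅
      (ModuleCat.extendScalars φ).obj (Dual2.HDI A I K i)) := by
  haveI := hasRgammaI I
  haveI := hasRgammaI (I.map φ)
  have hflat : (φ).Flat := RingHom.flat_algebraMap_iff.2 inferInstance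
  haveI : PreservesFiniteLimits (ModuleCat.extendScalars.{u, u, u} φ) :=
    ModuleCat.preservesFiniteLimits_extendScalars_of_flat hflat
  obtain ⟨fs, hfs⟩ := exists_ofList_eq (IsNoetherian.noetherian I)
  obtain ⟨J, hJ, hinj, ⟨e⟩⟩ := exists_model K
  let E := ModuleCat.extendScalars.{u, u, u} φ
  let P := (E.mapHomologicalComplex (ComplexShape.up ℤ)).obj J
  obtain ⟨eP, -⟩ := exists_rgamma_good (I := I.map φ) (fs := fs.map φ)
    (by rw [← Ideal.map_ofList, hfs]) P
    (fun n => good_extendScalars φ hflat (J.X n) fs (@good_of_injective A _ _ _ _ _ (hinj n) fs))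
  haveI := H25DTen.isIso_Q_map ((H25DTen.resψ A).app J) (H25DTen.quasiIso_resψ J)
  let eL : (DRing.LBaseChange φ).obj K ≅ DRing.toD P :=
    (DRing.LBaseChange φ).mapIso (e.symm ≪≫ (asIso (DerivedCategory.Q.map ((H25DTen.resψ A).app J))).symm) ≪≫
      TorAmp.lbaseObj φ ((H25DTen.res A).obj J) (H25DTen.isKFlat_res J) ≪≫
      (E.mapDerivedCategoryFactors.app ((H25DTen.res A).obj J)).symm ≪≫
      E.mapDerivedCategory.mapIso (asIso (DerivedCategory.Q.map ((H25DTen.resψ A).app J))) ≪≫
      E.mapDerivedCategoryFactors.app J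
  obtain ⟨cA⟩ := nonempty_equiv_HDI I K i
  obtain ⟨cB⟩ := nonempty_equiv_HDI (I.map φ) ((DRing.LBaseChange φ).obj K) i
  let HJ := ((ΓC I).obj J).homology i
  let eA : Dual2.HDI A I K i ≃ₗ[A] HJ :=
    cA.symm.trans ((hEquiv i ((DRing.RgammaI I).mapIso e.symm ≪≫ rgObj I J)).trans
      ((DerivedCategory.homologyFunctorFactors (ModuleCat.{u} A) i).app _).toLinearEquiv)
  let eB : Dual2.HDI B (I.map φ) ((DRing.LBaseChange φ).obj K) i ≃ₗ[B] E.obj HJ :=
    cB.symm.trans ((hEquiv i ((DRing.RgammaI (I.map φ)).mapIso eL ≪≫ eP ≪≫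
        DerivedCategory.Q.mapIso (ΓextIso φ hflat I J).symm)).trans
      (((DerivedCategory.homologyFunctorFactors (ModuleCat.{u} B) i).app
          ((E.mapHomologicalComplex (ComplexShape.up ℤ)).obj ((ΓC I).obj J))).toLinearEquiv.trans
        ((((ΓC I).obj J).sc i).mapHomologyIso E).toLinearEquiv))
  let e' : Dual2.HDI B (I.map φ) ((DRing.LBaseChange φ).obj K) i ≃ₗ[B]
      (ModuleCat.extendScalars φ).obj (Dual2.HDI A I K i) :=
    eB.trans (extEquiv φ HJ (Dual2.HDI A I K i) eA.symm)
  exact ⟨e'.toModuleIso⟩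

end Groth.Agent.H4DR.RG
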